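import Cfsg.Agent.SPOR.E6U.Ch
import Cfsg.Agent.SPOR.FiA4
import Cfsg.Agent.SPOR.LE.Top

/-!
From an involution centraliser of shape `2^(1+20).U₆(2)` or `2^(1+20).U₆(2).2` to the setting `St`.
-/

set_option autoImplicit false

namespace CL.E6U

open CL.LE CL.LX CL.MSS CL.FiRec CL.FiA CL.TTU CL.TTU.U6 Cfsg QuadraticMap

variable {G : Type*} [Group G] {z : G}

theorem fr_map {Q : Subgroup G} {κ : G → V} {ρ : Cz z →* (V ≃ₗ[ZMod 2] V)} {q : QuadraticForm (ZMod 2) V}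
    (f : LE.Fr z Q κ ρ q) (β : V ≃ₗ[ZMod 2] V) :
    LE.Fr z Q (fun x => β.symm (κ x)) (cjR ρ β) (q.comp β.toLinearMap) := by
  have pol : ∀ u v, polar (q.comp β.toLinearMap) u v = polar q (β u) (β v) := fun u v => by
    simp [polar]
  refine ⟨f.toLX, fun x hx y hy => by rw [f.κ_mul x hx y hy, map_add], fun v => ?_, fun x hx => ?_,
    fun c x hx => ?_, fun x hx => ?_, fun x hx y hy => ?_, fun v hv => ?_, fun c v => ?_, fun c => ?_⟩
  · obtain ⟨x, hx, e⟩ := f.κ_surj (β v)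
    exact ⟨x, hx, by rw [e, β.symm_apply_apply]⟩
  · rw [map_eq_zero_iff _ β.symm.injective, f.κ_zero x hx]
  · rw [cjR_apply, β.apply_symm_apply, f.κ_conj c x hx]
  · rw [f.sq_iff x hx]; simp
  · rw [pol, β.apply_symm_apply, β.apply_symm_apply, f.comm_iff x hx y hy]
  · refine (map_eq_zero_iff _ β.injective).1 (f.nondeg _ fun w => ?_)
    rw [← β.apply_symm_apply w, ← pol, hv]
  · simp [cjR_apply, f.q_rho]
  · rw [← f.rho_eq_one]
    refine ⟨fun h => LinearEquiv.ext fun w => ?_, fun h => LinearEquiv.ext fun w => ?_⟩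
    · have := congrArg β (LinearEquiv.congr_fun h (β.symm w))
      simpa [cjR_apply] using this
    · simp [cjR_apply, h]

theorem ux_TV {F : Type*} [Field F] [Fintype F] (hF : Fintype.card F = 2 ^ 2) (e : F4 ≃+* F) :
    UX (TV hF e) (pt hF e) := by
  refine ⟨real_TV hF e, closure_TV hF e, fun g hg => ?_, card_U6 hF⟩
  rw [← Subgroup.mem_bot, ← center_U6 hF e, Subgroup.mem_center_iff]
  intro x
  have : Subgroup.closure (TV hF e) ≤ Subgroup.centralizer {g} :=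
    (Subgroup.closure_le _).2 fun y hy => Subgroup.mem_centralizer_singleton_iff.2 (hg y hy).eq.symm
  exact Subgroup.mem_centralizer_singleton_iff.1 (this (closure_TV hF e ▸ Subgroup.mem_top x))

theorem idx2_norm {K H : Subgroup G} (hi : Idx2 K H) : H ≤ Subgroup.normalizer (K : Set G) :=
  le_normalizer_of_cj_le fun _ hg => cj_le_iff_forall.2 fun _ ha => (hi.cj_mem_iff hg (hi.le ha)).2 ha

theorem exists_st [Finite G] {Q0 H0 : Subgroup G} (h : LX Q0 z) (hc : Nat.card Q0 = 2 ^ 21)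
    (hi : Idx2 H0 (Cz z)) (hQ : Q0 ≤ H0) {F : Type*} [Field F] [Fintype F] (hF : Fintype.card F = 4)
    (π : H0 →* PSU 6 F 2) (hs : Function.Surjective π) (hk : ∀ c, π c = 1 ↔ (c : G) ∈ Q0) :
    ∃ (E : Set (PSU 6 F 2)) (t : ℕ → PSU 6 F 2) (ϱ : PSU 6 F 2 →* (V ≃ₗ[ZMod 2] V))
      (q : QuadraticForm (ZMod 2) V) (Q H : G → Subgroup G),
      St E t ϱ q {d | IsConj z d} Q H ∧ Q z = Q0 ∧ H z = H0 := by
  classical
  obtain ⟨e⟩ := F4.nonempty_equiv hF
  have U := ux_TV (F := F) hF e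
  obtain ⟨κ, ρ, q, f⟩ := LE.exists_fr h (m := 20) hc
  obtain ⟨σ, hσ⟩ : ∃ σ : PSU 6 F 2 →* _, ∀ c, σ (π c) = ρ (Subgroup.inclusion hi.le c) :=
    ⟨π.liftOfSurjective hs ⟨ρ.comp (Subgroup.inclusion hi.le), fun c hc =>
      (f.rho_eq_one _).2 ((hk c).1 hc)⟩, π.liftOfRightInverse_comp_apply _ _ _⟩
  have inj : Function.Injective σ := (injective_iff_map_eq_one _).2 fun a ha => by
    obtain ⟨c, rfl⟩ := hs a
    exact (hk c).2 ((f.rho_eq_one _).1 (hσ c ▸ ha))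
  obtain ⟨β, hβ⟩ := U.exists_md inj (by simp)
  obtain ⟨Q, hQ', hz, L⟩ := exists_lf h (n := 10) (by norm_num) hc
  let H : G → Subgroup G := fun d => if hd : ∃ g : G, g * z * g⁻¹ = d then hd.choose •ᶜ H0 else ⊥
  have hH : ∀ g : G, H (g * z * g⁻¹) = g •ᶜ H0 := fun g => by
    have hd : ∃ g' : G, g' * z * g'⁻¹ = g * z * g⁻¹ := ⟨g, rfl⟩
    simp only [H, dif_pos hd]
    have h1 : g⁻¹ * hd.choose ∈ Cz z := mem_Cz.2 (by
      calc g⁻¹ * hd.choose * z = g⁻¹ * (hd.choose * z * hd.choose⁻¹) * hd.choose := by group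
        _ = _ := by rw [hd.choose_spec]; group)
    rw [← mul_inv_cancel_left g hd.choose, MSS.cj_mul, cj_eq_of_mem_normalizer (idx2_norm hi h1)]
  let p : G → PSU 6 F 2 := fun g => if hg : g ∈ H0 then π ⟨g, hg⟩ else 1
  have hp : ∀ g (hg : g ∈ H0), p g = π ⟨g, hg⟩ := fun g hg => dif_pos hg
  have C : Ch0 (cjR σ β) (q.comp β.toLinearMap) Q0 H0 z (fun x => β.symm (κ x)) p (cjR ρ β) :=
    ⟨fr_map f β, hi, hQ, fun a ha b hb => by rw [hp a ha, hp b hb, hp _ (mul_mem ha hb), ← map_mul]; rfl,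
      fun g => by obtain ⟨c, rfl⟩ := hs g; exact ⟨c, c.2, hp c c.2⟩,
      fun c hc => LinearEquiv.ext fun w => by rw [cjR_apply, cjR_apply, hp c hc, hσ]; rfl⟩
  refine ⟨_, _, cjR σ β, q.comp β.toLinearMap, Q, H, ⟨L, ⟨U, hβ, fun a b ab => inj ?_⟩, ?_, ?_⟩, hz,
    by have := hH 1; rwa [cj_one, one_mul, inv_one, mul_one] at this⟩
  · refine LinearEquiv.ext fun w => ?_
    have := congrArg β (LinearEquiv.congr_fun ab (β.symm w))
    simpa [cjR_apply] using this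
  · intro d hd g
    obtain ⟨k, rfl⟩ := isConj_iff.1 hd
    rw [hH, ← MSS.cj_mul, ← hH]
    congr 1
    group
  · intro d hd
    obtain ⟨k, rfl⟩ := isConj_iff.1 hd
    have := C.cj k rfl
    rw [← hQ', ← hH] at this
    exact ⟨_, _, this⟩

end CL.E6U
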