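import Cfsg.Agent.SPOR.E6U.O
import Cfsg.Agent.SPOR.LE.N36
import Cfsg.Agent.SPOR.D42.Geo

/-!
Charts on involution centralisers of shape `2^(1+20).U₆(2)`.
-/

set_option autoImplicit false
set_option maxRecDepth 100000
set_option exponentiation.threshold 512
set_option linter.unusedSectionVars false

namespace CL.E6U

open CL.LE CL.LX CL.MSS CL.TTU CL.TTU.U6 CL.FiRec CL.PM CL.F2M QuadraticMap
open CL.K hiding lall lall_iff lany lany_iff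

attribute [local irreducible] mu ac MT I20 M JN ol inO

variable {X : Type*} [Group X] {E : Set X} {t : ℕ → X} {ϱ : X →* (V ≃ₗ[ZMod 2] V)}
  {q : QuadraticForm (ZMod 2) V} {G : Type*} [Group G] {D : Set G} {Q H : G → Subgroup G}
  {d x y : G} {κ : G → V} {p : G → X}

/-- a chart with the action of the full centraliser -/
structure Ch0 (ϱ : X →* (V ≃ₗ[ZMod 2] V)) (q : QuadraticForm (ZMod 2) V) (Q H : Subgroup G) (d : G)
    (κ : G → V) (p : G → X) (ρ : Cz d →* (V ≃ₗ[ZMod 2] V)) : Prop extends Fr d Q κ ρ q where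
  idx : Idx2 H (Cz d)
  QH : Q ≤ H
  mul : ∀ a ∈ H, ∀ b ∈ H, p (a * b) = p a * p b
  surj : ∀ g, ∃ a ∈ H, p a = g
  rho : ∀ c : Cz d, (c : G) ∈ H → ρ c = ϱ (p c)

/-- a chart -/
def Ch (ϱ : X →* (V ≃ₗ[ZMod 2] V)) (q : QuadraticForm (ZMod 2) V) (Q H : G → Subgroup G) (d : G)
    (κ : G → V) (p : G → X) : Prop := ∃ ρ, Ch0 ϱ q (Q d) (H d) d κ p ρ

theorem Ch0.cj {Q H : Subgroup G} {ρ : Cz d →* (V ≃ₗ[ZMod 2] V)} (C : Ch0 ϱ q Q H d κ p ρ) (g : G) {d' : G}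
    (e : g * d * g⁻¹ = d') : ∃ ρ', Ch0 ϱ q (g •ᶜ Q) (g •ᶜ H) d' (fun y => κ (g⁻¹ * y * g))
      (fun y => p (g⁻¹ * y * g)) ρ' := by
  subst e
  have cz : ∀ {c}, c ∈ Cz (g * d * g⁻¹) ↔ g⁻¹ * c * g ∈ Cz d := fun {c} => by
    rw [mem_Cz, mem_Cz, ← (MulAut.conj g⁻¹).injective.eq_iff]; simp [mul_assoc]
  have m : ∀ a b, g⁻¹ * (a * b) * g = g⁻¹ * a * g * (g⁻¹ * b * g) := fun a b => by group
  let θ : Cz (g * d * g⁻¹) →* Cz d :=
    { toFun := fun c => ⟨_, cz.1 c.2⟩, map_one' := Subtype.ext (by simp),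
      map_mul' := fun a b => Subtype.ext (m a b) }
  have inj : ∀ {a b}, g⁻¹ * a * g = g⁻¹ * b * g ↔ a = b := by simp
  refine ⟨ρ.comp θ, ⟨C.toLX.conj g, fun x hx y hy => by rw [m, C.κ_mul _ (mem_cj.1 hx) _ (mem_cj.1 hy)],
    fun v => ?_, fun x hx => ?_, fun c x hx => ?_, fun x hx => ?_, fun x hx y hy => ?_, C.nondeg,
    fun c => C.q_rho _, fun c => (C.rho_eq_one _).trans mem_cj.symm⟩,
    ⟨fun a ha => cz.2 (C.idx.le (mem_cj.1 ha)), fun a ha b hb a1 b1 => mem_cj.2 (m a b ▸ C.idx.mul _ (cz.1 ha)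
      _ (cz.1 hb) (mt mem_cj.2 a1) (mt mem_cj.2 b1))⟩, fun a ha => mem_cj.2 (C.QH (mem_cj.1 ha)),
    fun a ha b hb => by rw [m, C.mul _ (mem_cj.1 ha) _ (mem_cj.1 hb)], fun k => ?_,
    fun c hc => C.rho (θ c) (mem_cj.1 hc)⟩
  · obtain ⟨x, hx, rfl⟩ := C.κ_surj v
    exact ⟨_, conj_mem_cj hx, by simp [mul_assoc]⟩
  · rw [C.κ_zero _ (mem_cj.1 hx), ← inj (a := x) (b := 1), ← inj (a := x) (b := g * d * g⁻¹)]; simp [mul_assoc]
  · exact (congrArg κ (by simp [θ, mul_assoc])).trans (C.κ_conj (θ c) _ (mem_cj.1 hx))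
  · rw [← C.sq_iff _ (mem_cj.1 hx), ← m, ← inj (b := 1)]; simp
  · rw [← C.comm_iff _ (mem_cj.1 hx) _ (mem_cj.1 hy), ← m, ← m, inj]
  · obtain ⟨a, ha, rfl⟩ := C.surj k
    exact ⟨_, conj_mem_cj ha, by simp [mul_assoc]⟩

/-- the setting -/
structure St (E : Set X) (t : ℕ → X) (ϱ : X →* (V ≃ₗ[ZMod 2] V)) (q : QuadraticForm (ZMod 2) V)
    (D : Set G) (Q H : G → Subgroup G) : Prop extends LF D Q 10 where
  md : MD E t ϱ
  equiH : ∀ {d}, d ∈ D → ∀ g, H (g * d * g⁻¹) = g •ᶜ H d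
  ch : ∀ {d}, d ∈ D → ∃ κ p, Ch ϱ q Q H d κ p

namespace Ch

variable (C : Ch ϱ q Q H d κ p)
include C

theorem κ_mul {a b : G} (ha : a ∈ Q d) (hb : b ∈ Q d) : κ (a * b) = κ a + κ b :=
  C.choose_spec.κ_mul a ha b hb
theorem κ_inv {a : G} (ha : a ∈ Q d) : κ a⁻¹ = κ a := C.choose_spec.κ_inv ha
theorem κ_surj (v : V) : ∃ a ∈ Q d, κ a = v := C.choose_spec.κ_surj v
theorem κ_one : κ 1 = 0 := C.choose_spec.κ_one
theorem κ_d : κ d = 0 := C.choose_spec.κ_z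
theorem κ_zero {a : G} (ha : a ∈ Q d) : κ a = 0 ↔ a = 1 ∨ a = d := C.choose_spec.κ_zero a ha
theorem κ_eq_iff {a b : G} (ha : a ∈ Q d) (hb : b ∈ Q d) : κ a = κ b ↔ a = b ∨ a = b * d :=
  C.choose_spec.κ_eq_iff ha hb
theorem comm_iff {a b : G} (ha : a ∈ Q d) (hb : b ∈ Q d) : a * b = b * a ↔ polar q (κ a) (κ b) = 0 :=
  C.choose_spec.comm_iff a ha b hb
theorem nd : ∀ v, (∀ w, polar q v w = 0) → v = 0 := C.choose_spec.nondeg
theorem idx : Idx2 (H d) (Cz d) := C.choose_spec.idx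
theorem QH {a : G} (ha : a ∈ Q d) : a ∈ H d := C.choose_spec.QH ha
theorem comm {a : G} (ha : a ∈ H d) : a * d = d * a := mem_Cz.1 (C.idx.le ha)
theorem mul {a b : G} (ha : a ∈ H d) (hb : b ∈ H d) : p (a * b) = p a * p b := C.choose_spec.mul a ha b hb
theorem surj (g : X) : ∃ a ∈ H d, p a = g := C.choose_spec.surj g
theorem one : p 1 = 1 := by simpa using C.mul (one_mem _) (one_mem _)
theorem inv {a : G} (ha : a ∈ H d) : p a⁻¹ = (p a)⁻¹ :=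
  eq_inv_of_mul_eq_one_left (by rw [← C.mul (inv_mem ha) ha, inv_mul_cancel, C.one])
theorem p_cj {a b : G} (ha : a ∈ H d) (hb : b ∈ H d) : p (a * b * a⁻¹) = p a * p b * (p a)⁻¹ := by
  rw [C.mul (mul_mem ha hb) (inv_mem ha), C.mul ha hb, C.inv ha]
theorem norm {c a : G} (hc : c ∈ H d) (ha : a ∈ Q d) : c * a * c⁻¹ ∈ Q d :=
  C.choose_spec.norm c (C.comm hc) a ha

theorem conj {c a : G} (hc : c ∈ H d) (ha : a ∈ Q d) : κ (c * a * c⁻¹) = ϱ (p c) (κ a) := by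
  obtain ⟨ρ, C⟩ := C
  rw [← C.rho ⟨c, C.idx.le hc⟩ hc]; exact C.κ_conj ⟨c, _⟩ a ha

theorem hq (g : X) (v : V) : q (ϱ g v) = q v := by
  obtain ⟨ρ, C⟩ := C
  obtain ⟨a, ha, rfl⟩ := C.surj g
  rw [← C.rho ⟨a, C.idx.le ha⟩ ha, C.q_rho]

variable (S : St E t ϱ q D Q H)
include S

theorem ker {c : G} (hc : c ∈ H d) : p c = 1 ↔ c ∈ Q d := by
  obtain ⟨ρ, C⟩ := C
  rw [← map_eq_one_iff ϱ S.md.inj, ← C.rho ⟨c, C.idx.le hc⟩ hc, C.rho_eq_one]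

theorem eq_iff {a b : G} (ha : a ∈ H d) (hb : b ∈ H d) : p a = p b ↔ a⁻¹ * b ∈ Q d := by
  rw [← C.ker S (mul_mem (inv_mem ha) hb), C.mul (inv_mem ha) hb, C.inv ha, inv_mul_eq_one]

theorem p_mul {a c : G} (ha : a ∈ Q d) (hc : c ∈ H d) : p (a * c) = p c := by
  rw [C.mul (C.QH ha) hc, (C.ker S (C.QH ha)).2 ha, one_mul]

theorem cj (hd : d ∈ D) (g : G) {d' : G} (e : g * d * g⁻¹ = d') :
    Ch ϱ q Q H d' (fun y => κ (g⁻¹ * y * g)) (fun y => p (g⁻¹ * y * g)) := by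
  obtain ⟨ρ, C⟩ := C
  have := C.cj g e
  rwa [← S.equi hd, ← S.equiH hd, e] at this

theorem re (hd : d ∈ D) (g : X) : ∃ κ' p', Ch ϱ q Q H d κ' p' ∧ (∀ y ∈ Q d, κ y = ϱ g (κ' y)) ∧
    ∀ c ∈ H d, p c = g * p' c * g⁻¹ := by
  obtain ⟨a, ha, rfl⟩ := C.surj g
  refine ⟨_, _, C.cj S hd a (by rw [C.comm ha, mul_inv_cancel_right]), fun y hy => ?_, fun c hc => ?_⟩
  · rw [← C.conj ha (by simpa using C.norm (inv_mem ha) hy)]; simp [mul_assoc]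
  · rw [← C.p_cj ha (mul_mem (mul_mem (inv_mem ha) hc) ha)]; simp [mul_assoc]

theorem nw_of (n : NW D Q d x) (hy : y ∈ Q d) {g : X} (e : κ y = ϱ g (κ x)) : NW D Q d y := by
  obtain ⟨c, hc, rfl⟩ := C.surj g
  have n' := D42.nw_cz S.toLF n (C.comm hc)
  rw [← C.conj hc n.mem, C.κ_eq_iff hy n'.mem] at e
  rcases e with rfl | rfl
  exacts [n', S.nw_third n']

end Ch

namespace Ch0

variable [Finite G] {ρ : Cz d →* (V ≃ₗ[ZMod 2] V)} (C : Ch0 ϱ q (Q d) (H d) d κ p ρ) (S : St E t ϱ q D Q H)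
  (n : NW D Q d x)
include C S n

theorem E_conj {l : V ≃ₗ[ZMod 2] V} (hl : l ∈ Lam ρ (Q x)) {e : V} (he : e ∈ C.img (Q x)) :
    l e + e = 0 ∨ l e + e = κ x := by
  obtain ⟨c, hc, rfl⟩ := hl
  obtain ⟨a, a1, a2, rfl⟩ := he
  rw [← C.κ_conj c a a2]
  rcases (S.lx n.xD).toES.conj_cases a1 (show (c : G) ∈ Q x from hc) with k | k <;> rw [k]
  · exact Or.inl (v2_add_self _)
  · rw [C.κ_mul a a2 x n.mem, add_right_comm, v2_add_self, zero_add]; exact Or.inr rfl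

theorem ea : EA ((Lam ρ (Q x)).comap ϱ) := fun a ha =>
  S.md.inj (by rw [map_mul, map_one]; exact (S.nl n C.toFr).sq _ ha)

theorem card_B : 256 ≤ Nat.card ((Lam ρ (Q x)).comap ϱ) := by
  have := S.md.finite
  have h1 := card_map_mul_card_inf ρ C.rho_eq_one (P := CQ Q x d ⊓ H d) (inf_le_right.trans C.idx.le)
  have h2 : Nat.card ↥(Q d ⊓ (CQ Q x d ⊓ H d)) ≤ Nat.card ↥(Q d ⊓ Q x) :=
    Subgroup.card_le_of_le (inf_le_inf_left _ (inf_le_left.trans inf_le_left))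
  have h3 := (S.nl n C.toFr).finrank_E_le
  rw [Module.finrank_fin_fun] at h3
  have h4 : Nat.card ↥(Q d ⊓ Q x) ≤ 2 ^ 11 := by
    rw [S.nw_card_E n C.toFr]; exact Nat.pow_le_pow_right two_pos (by omega)
  obtain ⟨a, ha⟩ : ∃ a, ∀ b ∈ CQ Q x d, b ∈ H d ∨ a⁻¹ * b ∈ H d := by
    by_cases h : ∃ a ∈ CQ Q x d, a ∉ H d
    · obtain ⟨a, a1, a2⟩ := h
      exact ⟨a, fun b hb => or_iff_not_imp_left.2 (C.idx.mul _ (inv_mem a1.2) _ hb.2 (mt inv_mem_iff.1 a2))⟩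
    · push Not at h
      exact ⟨1, fun b hb => Or.inl (h b hb)⟩
  have h5 := card_le_mul (F := CQ Q x d) (A := H d) (T := [0, 1]) (r := fun j => a ^ j) fun b hb => by
    rcases ha b hb with e | e
    exacts [⟨0, by simp, b, e, by simp⟩, ⟨1, by simp, _, e, by simp⟩]
  rw [S.nw_card_L n, ← Subgroup.coe_inf, ← Nat.card_coe_set_eq] at h5
  have h6 : Nat.card (((CQ Q x d ⊓ H d).subgroupOf (Cz d)).map ρ) ≤ Nat.card ((Lam ρ (Q x)).comap ϱ) := by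
    have : Finite (V ≃ₗ[ZMod 2] V) := Finite.of_injective _ DFunLike.coe_injective
    rw [← Subgroup.card_map_of_injective (K := (Lam ρ (Q x)).comap ϱ) S.md.inj]
    refine Subgroup.card_le_of_le ?_
    rintro _ ⟨c, hc, rfl⟩
    exact ⟨p c, ⟨c, hc.1.1, C.rho c hc.2⟩, (C.rho c hc.2).symm⟩
  have h7 := Nat.mul_le_mul h6 (h2.trans h4)
  change _ ≤ 2 * Nat.card ↥(CQ Q x d ⊓ H d) at h5
  omega

theorem ob : Ob ϱ (κ x) := S.md.ob_of (Ch.hq ⟨ρ, C⟩) C.nondeg (C.ea S n) (C.card_B S n)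
  fun _ ha _ hb w hw => C.E_conj S n ha ((S.nl n C.toFr).perp _ hb w hw)

variable (e : κ x = vd 1)
include e

theorem B_eq : (Lam ρ (Q x)).comap ϱ = BG t := S.md.eq_BG (C.ea S n) (C.card_B S n) fun g hg b hb => by
  obtain ⟨c, hc, rfl⟩ := C.surj g
  have k := C.rho ⟨c, C.idx.le hc⟩ hc
  have := (S.nw_equi n C.toFr n.mem (c := ⟨c, C.idx.le hc⟩) (by rw [k, e, hg])).2 _ hb
  rwa [k, ← map_inv, ← map_mul, ← map_mul] at this

theorem J_mem (k : ℕ) : ϱ (J t k) ∈ Lam ρ (Q x) := (C.B_eq S n e).ge (FiRec.J_mem t k)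

theorem pol (v : V) : polar q (κ x) v = 0 ↔ v ∈ F 19 := e ▸ S.md.pol0 (Ch.hq ⟨ρ, C⟩) C.nondeg v

theorem E_eq : C.img (Q x) = F 10 := by
  have N := S.nl n C.toFr
  have h1 : F 10 ≤ C.img (Q x) := F_le fun j hj => by
    have c := allLt_iff.1 chk_CS.2.2.1 j (by omega)
    simp only [an_iff, ou_iff, blt_iff, ble_iff, beq_iff] at c
    rw [← c.2.1, ← M_vd, ← S.md.JN_eq c.1]
    exact N.perp _ (C.J_mem S n e _) _ ((C.pol S n e _).2 (vd_mem (c.2.2.resolve_left (by omega))))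
  refine le_antisymm (fun v hv => ?_) h1
  obtain ⟨c, hc, rfl⟩ := (C.pol S n e v).1 (N.polar_E N.x_mem hv)
  refine vd_mem (by_contra fun k => ?_)
  obtain ⟨i, hi, k⟩ := anyLt_iff.1 ((ou_iff.1 (allLt_iff.1 chk_CS.2.2.2 (c / 2 ^ 10) (by omega))).resolve_left
    (by rw [beq_iff]; omega))
  have m : vd (c / 2 ^ 10 * 2 ^ 10) ∈ C.img (Q x) :=
    (Submodule.add_mem_iff_left _ (h1 (vd_mem (Nat.mod_lt _ (by norm_num))))).1 (vd_split c 10 ▸ hv)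
  have := C.E_conj S n (C.J_mem S n e (2 ^ i)) m
  rw [S.md.JN_eq (Nat.pow_lt_pow_right one_lt_two hi), M_vd, e, ← vd_zero] at this
  refine no_iff.1 k (beq_iff.2 ?_)
  change ac _ (c / 2 ^ 10 * 2 ^ 10) / 2 = 0
  rcases this with a | a <;> rw [vd_inj (ac_lt _ _) (by decide) a]

theorem mem_H {s : G} (s1 : s ∈ Q x) (s2 : s * d = d * s) : s ∈ H d ∧ p s ∈ BG t := by
  have N := S.nl n C.toFr
  have hl : ρ ⟨s, mem_Cz.2 s2⟩ ∈ Lam ρ (Q x) := ⟨_, s1, rfl⟩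
  obtain ⟨c, hc, k⟩ := (C.pol S n e _).1 (N.theta_perp hl (vd 524288))
  have hk : c / 2 ^ 10 < 512 := by omega
  have := N.eq_of_theta hl (C.J_mem S n e (c / 2 ^ 10)) (v := vd 524288)
    (fun h => absurd (lt_of_mem (by decide) (by decide) ((C.pol S n e _).1 h)) (by decide)) (by
      rw [k, S.md.JN_eq hk, C.E_eq S n e, vd_split c 10, add_right_comm, add_comm (vd _)]
      exact add_mem (MD.JN_spec hk).2.2.2 (vd_mem (Nat.mod_lt _ (by norm_num))))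
  obtain ⟨a, ha, e1⟩ := C.surj (J t (c / 2 ^ 10))
  have m : s ∈ H d := by
    rw [← e1, ← C.rho ⟨a, C.idx.le ha⟩ ha, C.rho_eq_iff] at this
    exact inv_mem_iff.1 ((mul_mem_cancel_right ha).1 (C.QH this))
  exact ⟨m, S.md.inj ((C.rho ⟨s, _⟩ m).symm.trans this) ▸ FiRec.J_mem t _⟩

end Ch0

namespace Ch

variable [Finite G] (C : Ch ϱ q Q H d κ p) (S : St E t ϱ q D Q H) (n : NW D Q d x)
include C S n

theorem ob : Ob ϱ (κ x) := C.choose_spec.ob S n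

theorem nw_of_ob (hy : y ∈ Q d) (o : Ob ϱ (κ y)) : NW D Q d y := by
  obtain ⟨g, e⟩ := C.ob S n
  obtain ⟨k, e'⟩ := o
  exact C.nw_of S n hy (g := k * g⁻¹) (by rw [σ_mul, e, σ_inv, e'])

theorem std : ∃ κ' p' g, Ch ϱ q Q H d κ' p' ∧ κ' x = vd 1 ∧ (∀ y ∈ Q d, κ y = ϱ g (κ' y)) ∧
    ∀ c ∈ H d, p c = g * p' c * g⁻¹ := by
  obtain ⟨g, e⟩ := C.ob S n
  obtain ⟨κ', p', C', h1, h2⟩ := C.re S n.zD g
  exact ⟨κ', p', g, C', (ϱ g).injective ((h1 x n.mem).symm.trans e), h1, h2⟩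

variable (e : κ x = vd 1)
include e

theorem mem_H {s : G} (s1 : s ∈ Q x) (s2 : s * d = d * s) : s ∈ H d ∧ p s ∈ BG t :=
  C.choose_spec.mem_H S n e s1 s2

theorem exists_s {j : X} (hj : j ∈ BG t) : ∃ s ∈ Q x, s ∈ H d ∧ p s = j := by
  obtain ⟨ρ, C⟩ := C
  obtain ⟨c, c1, c2⟩ := (C.B_eq S n e).ge hj
  have := (C.mem_H S n e c1 (Cz_comm c)).1
  exact ⟨c, c1, this, S.md.inj ((C.rho c this).symm.trans c2)⟩

theorem mem_iff (hy : y ∈ Q d) : y ∈ Q x ↔ κ y ∈ F 10 := by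
  rw [← C.choose_spec.E_eq S n e, S.nw_mem_img n C.choose_spec.toFr hy]

theorem com_iff (hy : y ∈ Q d) : y * x = x * y ↔ κ y ∈ F 19 := by
  rw [eq_comm, C.comm_iff n.mem hy, C.choose_spec.pol S n e]

theorem std2 (n' : NW D Q d y) (c : y * x ≠ x * y) : ∃ κ' p' g, Ch ϱ q Q H d κ' p' ∧ κ' x = vd 1 ∧
    κ' y = vd 524288 ∧ (∀ y ∈ Q d, κ y = ϱ g (κ' y)) ∧ ∀ c ∈ H d, p c = g * p' c * g⁻¹ := by
  obtain ⟨a, ha, e1⟩ := exists_vd (κ y)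
  obtain ⟨i, hi, rfl⟩ := S.md.inO_of ha (e1 ▸ C.ob S n')
  have h1 : 524288 ≤ ol i := not_lt.1 fun k => c ((C.com_iff S n e n'.mem).2 (e1 ▸ vd_mem k))
  have hk : ol i / 1024 - 512 < 512 := by omega
  obtain ⟨κ', p', C', k1, k2⟩ := C.re S n.zD (J t (ol i / 1024 - 512))
  refine ⟨κ', p', _, C', (ϱ _).injective ((k1 x n.mem).symm.trans (e.trans ?_)),
    (ϱ _).injective ((k1 y n'.mem).symm.trans (e1.trans ?_)), k1, k2⟩
  · rw [← v2_add_eq_zero, add_comm, S.md.JN_eq hk, (MD.JN_spec hk).1]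
  · rw [← v2_add_add_cancel' (ϱ _ _) (vd 524288), S.md.JN_eq hk, M_vd, ← vd_xor, (ol_spec hi).2.2.1 h1]

end Ch

end CL.E6U
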