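import Cfsg.Agent.SPOR.E6U.Wt
import Cfsg.Agent.SPOR.F2Mat
import Cfsg.Agent.SPOR.FiRec6

/-!
Words in the transvections of `U₆(2)` and codes of linear maps of `𝔽₂²⁰`.
-/

set_option autoImplicit false
set_option maxRecDepth 100000
set_option exponentiation.threshold 512

namespace CL.E6U

open CL.LE CL.K CL.TTU CL.TTU.U6 CL.FiRec CL.F2M CL.PM Matrix

variable {X : Type*} [Group X]

/-- the group `U₆(2)` with its numbered transvections -/
structure UX (E : Set X) (t : ℕ → X) : Prop where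
  R : Real 693 op E t
  gen : Subgroup.closure E = ⊤
  cen : ∀ g, (∀ x ∈ E, Commute g x) → g = 1
  card : Nat.card X = 9196830720

/-- a relator -/
noncomputable def rel (w : List ℕ) : Bool := an (okW w) (cenW w)

/-- a relation -/
noncomputable def eqv (v w : List ℕ) : Bool := rel (v ++ w.reverse)

/-- power of a word -/
def rp (n : ℕ) (w : List ℕ) : List ℕ := (List.replicate n w).flatten

theorem wd_nil (t : ℕ → X) : wd t [] = 1 := rfl

theorem wd_one (t : ℕ → X) (s : ℕ) : wd t [s] = t s := mul_one _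

theorem wd_rp (t : ℕ → X) (n : ℕ) (w : List ℕ) : wd t (rp n w) = wd t w ^ n := by
  induction n with
  | zero => simp [rp, wd]
  | succ n ih => rw [pow_succ', ← ih, ← wd_append]; rfl

namespace UX

variable {E : Set X} {t : ℕ → X} (U : UX E t)
include U

theorem finite : Finite X := Nat.finite_of_card_ne_zero (by rw [U.card]; norm_num)

theorem mem (g : X) : g ∈ Subgroup.closure E := U.gen ▸ Subgroup.mem_top g

theorem cj_mem (g : X) {x : X} (hx : x ∈ E) : g * x * g⁻¹ ∈ E := U.R.fs.cj_mem subset_rfl (U.mem g) hx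

theorem of_real {t' : ℕ → X} (R : Real 693 op E t') : UX E t' := ⟨R, U.gen, U.cen, U.card⟩

theorem rel {w : List ℕ} (h : rel w = true) : wd t w = 1 :=
  U.cen _ ((cenW_iff U.R (okW_iff.1 (an_iff.1 h).1)).1 (an_iff.1 h).2)

theorem wd_reverse {w : List ℕ} (h : ∀ s ∈ w, s < 693) : wd t w.reverse = (wd t w)⁻¹ := by
  induction w with
  | nil => simp [wd]
  | cons s w ih =>
    rw [List.reverse_cons, wd_append, ih fun a ha => h a (List.mem_cons_of_mem _ ha), wd_cons,
      wd_cons, wd_nil, mul_one, _root_.mul_inv_rev, U.R.fs.inv (U.R.mem (h s List.mem_cons_self))]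

theorem eqv {v w : List ℕ} (h : eqv v w = true) : wd t v = wd t w := by
  have := U.rel h
  rwa [wd_append, U.wd_reverse fun s hs => okW_iff.1 (an_iff.1 h).1 s
    (List.mem_append_right _ (List.mem_reverse.2 hs)), mul_inv_eq_one] at this

end UX

/-- the space -/
abbrev V := Fin 20 → ZMod 2

/-- lane constant -/
def CM : ℕ := 0x100001000010000100001000010000100001000010000100001000010000100001000010000100001000010000100001
/-- vector with a given code -/
abbrev vd (c : ℕ) : V := vdec 20 c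
/-- matrix times vector -/
noncomputable def ac (c v : ℕ) : ℕ := F2M.act 20 1048575 c v
/-- matrix times matrix -/
noncomputable def mu (a b : ℕ) : ℕ := mulC 20 CM 1048575 a b
/-- the identity -/
def I20 : ℕ := 0x8000040000200001000008000040000200001000008000040000200001000008000040000200001000008000040000200001
/-- the linear map with a given code -/
def M (c : ℕ) : V →ₗ[ZMod 2] V := (mdec 20 c).mulVecLin

theorem ok : OK 20 CM 1048575 := ⟨by norm_num, by norm_num, by
  rw [← cols_eq]; decide +kernel⟩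

theorem M_vd (c v : ℕ) : M c (vd v) = vd (ac c v) := (ok.vdec_act c v).symm

theorem M_mu (a b : ℕ) (w : V) : M (mu a b) w = M a (M b w) := by
  simp only [M, mu, ok.mdec_mulC, mulVecLin_apply, mulVec_mulVec]

theorem M_xor (a b : ℕ) (w : V) : M (a ^^^ b) w = M a w + M b w := by
  rw [M, show mdec 20 (a ^^^ b) = mdec 20 a + mdec 20 b by
    ext i j; simp [mdec, b2z_xor], mulVecLin_add]; rfl

theorem M_one (w : V) : M I20 w = w := by
  rw [M, show I20 = F2M.oneC 20 by decide +kernel, ← mcode_one, mdec_mcode, mulVecLin_one]; rfl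

theorem ac_lt (c v : ℕ) : ac c v < 2 ^ 20 := ok.act_lt c v

theorem mu_lt (a b : ℕ) : mu a b < 2 ^ 400 := ok.mulC_lt a b

theorem ac_lt' {c m : ℕ} (h : allLt (fun k => Nat.blt (fld 20 1048575 c k) (2 ^ m)) 20 = true)
    (v : ℕ) : ac c v < 2 ^ m := by
  rw [ac, F2M.act, force_eq]
  exact xorLt_lt fun k hk => bit_mul_lt (blt_iff.1 (allLt_iff.1 h k hk))

theorem M_inj {a b : ℕ} (ha : a < 2 ^ 400) (hb : b < 2 ^ 400) (h : ∀ w, M a w = M b w) : a = b :=
  eq_of_mdec (n := 20) ha hb (Matrix.toLin'.injective (LinearMap.ext h))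

theorem vd_inj {a b : ℕ} (ha : a < 2 ^ 20) (hb : b < 2 ^ 20) (h : vd a = vd b) : a = b :=
  eq_of_vdec ha hb h

theorem exists_vd (w : V) : ∃ c < 2 ^ 20, w = vd c := ⟨_, vcode_lt w, (vdec_vcode w).symm⟩

theorem vd_xor (a b : ℕ) : vd (a ^^^ b) = vd a + vd b := vdec_xor a b

theorem ext_vd {V' : Type*} [AddCommGroup V'] [Module (ZMod 2) V'] {f g : V →ₗ[ZMod 2] V'}
    (h : ∀ j < 20, f (vd (2 ^ j)) = g (vd (2 ^ j))) (w : V) : f w = g w :=
  LinearMap.congr_fun ((Pi.basisFun (ZMod 2) (Fin 20)).ext fun j => by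
    rw [Pi.basisFun_apply, ← vdec_two_pow]; exact h j j.2) w

/-- the product of a word -/
noncomputable def wm (T : ℕ → ℕ) (w : List ℕ) : ℕ :=
  List.rec (motive := fun _ => ℕ) I20 (fun s _ ih => mu (T s) ih) w

/-- the action of a word -/
noncomputable def wa (T : ℕ → ℕ) (w : List ℕ) (v : ℕ) : ℕ :=
  List.rec (motive := fun _ => ℕ) v (fun s _ ih => ac (T s) ih) w

theorem M_wm (T : ℕ → ℕ) (w : List ℕ) (v : ℕ) : M (wm T w) (vd v) = vd (wa T w v) := by
  induction w with
  | nil => exact M_one _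
  | cons s w ih => exact (M_mu _ _ _).trans ((congrArg _ ih).trans (M_vd _ _))

theorem wa_lt (T : ℕ → ℕ) (w : List ℕ) {v : ℕ} (h : v < 2 ^ 20) : wa T w v < 2 ^ 20 := by
  cases w with
  | nil => exact h
  | cons s w => exact ac_lt _ _

/-- `c` is the code of `g` -/
def Cd (ϱ : X →* (V ≃ₗ[ZMod 2] V)) (g : X) (c : ℕ) : Prop := ∀ w, ϱ g w = M c w

variable {ϱ : X →* (V ≃ₗ[ZMod 2] V)}

theorem Cd.mul {g k : X} {a b : ℕ} (h : Cd ϱ g a) (h' : Cd ϱ k b) : Cd ϱ (g * k) (mu a b) :=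
  fun w => by rw [σ_mul, h', h, M_mu]

theorem cd_one : Cd ϱ 1 I20 := fun w => by rw [σ_one, M_one]

theorem cd_wm {t : ℕ → X} {T : ℕ → ℕ} {w : List ℕ} (h : ∀ s ∈ w, Cd ϱ (t s) (T s)) :
    Cd ϱ (wd t w) (wm T w) := by
  induction w with
  | nil => exact cd_one
  | cons s w ih =>
    exact (h s List.mem_cons_self).mul (ih fun a ha => h a (List.mem_cons_of_mem _ ha))

theorem Cd.eq {g : X} {a b : ℕ} (h : Cd ϱ g a) (h' : Cd ϱ g b) (ha : a < 2 ^ 400)
    (hb : b < 2 ^ 400) : a = b := M_inj ha hb fun w => (h w).symm.trans (h' w)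

/-- transport of a representation -/
def cjR {Y V₁ V₂ : Type*} [Group Y] [AddCommGroup V₁] [Module (ZMod 2) V₁] [AddCommGroup V₂]
    [Module (ZMod 2) V₂] (σ : Y →* (V₂ ≃ₗ[ZMod 2] V₂)) (β : V₁ ≃ₗ[ZMod 2] V₂) :
    Y →* (V₁ ≃ₗ[ZMod 2] V₁) where
  toFun g := β.trans ((σ g).trans β.symm)
  map_one' := by ext w; simp
  map_mul' a b := by ext w; simp

theorem cjR_apply {Y V₁ V₂ : Type*} [Group Y] [AddCommGroup V₁] [Module (ZMod 2) V₁]
    [AddCommGroup V₂] [Module (ZMod 2) V₂] (σ : Y →* (V₂ ≃ₗ[ZMod 2] V₂)) (β : V₁ ≃ₗ[ZMod 2] V₂)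
    (g : Y) (w : V₁) : cjR σ β g w = β.symm (σ g (β w)) := rfl

/-- the equivalence given by two inverse codes -/
def ME {a b : ℕ} (h1 : mu a b = I20) (h2 : mu b a = I20) : V ≃ₗ[ZMod 2] V :=
  LinearEquiv.ofLinearMap (M a) (M b) (LinearMap.ext fun w => by
    rw [LinearMap.comp_apply, ← M_mu, h1, M_one]; rfl) (LinearMap.ext fun w => by
    rw [LinearMap.comp_apply, ← M_mu, h2, M_one]; rfl)

end CL.E6U
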