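import Cfsg.Agent.SPOR.E6U.Ch

/-!
Every involution of `C(z)` centralises a conjugate of `z` in `Q z`.
-/

set_option autoImplicit false
set_option maxRecDepth 100000

namespace CL.E6U

open CL.LE CL.LX CL.MSS CL.TTU CL.TTU.U6 CL.FiRec CL.PM CL.F2M
open CL.K hiding lall lall_iff lany lany_iff

attribute [local irreducible] ol

variable {X : Type*} [Group X] {E : Set X} {t : ℕ → X} {ϱ : X →* (V ≃ₗ[ZMod 2] V)}
  {q : QuadraticForm (ZMod 2) V} {G : Type*} [Group G] [Finite G] {D : Set G} {Q H : G → Subgroup G}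
  {z x y : G}

theorem MD.ncard_ob (h : MD E t ϱ) : {v | Ob ϱ v}.ncard = 891 := by
  have e : {v | Ob ϱ v} = (fun i => vd (ol i)) '' Set.Iio 891 := Set.ext fun v => ⟨fun o => by
    obtain ⟨c, hc, rfl⟩ := exists_vd v
    obtain ⟨i, hi, rfl⟩ := h.inO_of hc o
    exact ⟨i, hi, rfl⟩, by rintro ⟨i, hi, rfl⟩; exact h.ob_ol hi⟩
  have m : StrictMonoOn ol (Set.Iic 890) :=
    strictMonoOn_Iic_of_lt_succ fun i hi => blt_iff.1 (allLt_iff.1 chk_par.2.1 i hi)
  have k : Set.InjOn (fun i => vd (ol i)) (Set.Iio 891) := fun i hi j hj ij =>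
    m.injOn (Nat.le_of_lt_succ hi) (Nat.le_of_lt_succ hj) (vd_inj (ol_spec hi).2.1 (ol_spec hj).2.1 ij)
  rw [e, k.ncard_image, Set.ncard_Iio_nat]

theorem vd_half (c : ℕ) : vd c = vd (c / 2 * 2) ∨ vd c = vd (c / 2 * 2) + vd 1 := by
  have := vd_split c 1
  rw [pow_one] at this
  rcases Nat.mod_two_eq_zero_or_one c with e | e <;> rw [e] at this
  exacts [Or.inl (by rw [this, vd_zero, add_zero]), Or.inr this]

theorem St.exists_fix' (S : St E t ϱ q D Q H) (n : NW D Q z x) (h1 : y * y = 1) (h2 : y * z = z * y) :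
    ∃ v, NW D Q z v ∧ y * v = v * y := by
  have yy : ∀ a, y * (y * a * y⁻¹) * y⁻¹ = a := fun a => by
    rw [show y * (y * a * y⁻¹) * y⁻¹ = y * y * a * (y * y)⁻¹ by group, h1]; group
  have key : ∀ {κ p v}, ∀ C : Ch ϱ q Q H z κ p, NW D Q z v → ∃ f : V ≃ₗ[ZMod 2] V, (∀ w, f (f w) = w) ∧
      (∀ a ∈ Q z, κ (y * a * y⁻¹) = f (κ a)) ∧ ∀ w, Ob ϱ w → Ob ϱ (f w) := by
    intro κ p v C m
    obtain ⟨ρ, C0⟩ := id C
    have k : ∀ a ∈ Q z, κ (y * a * y⁻¹) = ρ ⟨y, mem_Cz.2 h2⟩ (κ a) := C0.κ_conj ⟨y, mem_Cz.2 h2⟩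
    refine ⟨_, fun w => ?_, k, fun w o => ?_⟩ <;> obtain ⟨a, ha, rfl⟩ := C.κ_surj w
    · rw [← k a ha, ← k _ (C0.norm y h2 a ha), yy]
    · rw [← k a ha]; exact C.ob S (D42.nw_cz S.toLF (C.nw_of_ob S m ha o) h2)
  obtain ⟨κ, p, C⟩ := S.ch n.zD
  obtain ⟨f, f1, f2, f3⟩ := key C n
  obtain ⟨w, o, e⟩ := exists_fixed_of_odd (Y := {v | Ob ϱ v}) (σ := f) (by rw [S.md.ncard_ob]; decide) f3
    fun w _ => f1 w
  obtain ⟨v, hv, rfl⟩ := C.κ_surj w
  have m := C.nw_of_ob S n hv o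
  have lx := S.lx n.zD
  rw [← f2 v hv, C.κ_eq_iff (lx.norm y h2 v hv) hv] at e
  rcases e with e | e
  · exact ⟨v, m, mul_inv_eq_iff_eq_mul.1 e⟩
  clear f1 f2 f3 o
  obtain ⟨κ, p, -, C, e1, -⟩ := C.std S m
  obtain ⟨f, f1, f2, f3⟩ := key C n
  have f4 : f (vd 1) = vd 1 := by rw [← e1, ← f2 v hv, e, C.κ_mul hv lx.z_mem, C.κ_d, add_zero]
  choose cd c1 c2 using exists_vd
  have lt : ∀ a ∈ CS, a < 512 := by decide
  have f5 : ∀ a ∈ CS, cd (f (vd (a * 2))) / 2 ∈ CS := fun a ha => by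
    have ob : Ob ϱ (vd (a * 2)) := S.md.ob_CS (by rwa [Nat.mul_div_cancel _ two_pos])
    obtain ⟨b, hb, eb⟩ := C.κ_surj (vd (a * 2))
    have h3 : b ∈ Q v := (C.mem_iff S m e1 hb).2 (eb ▸ vd_mem (by have := lt a ha; omega))
    have h4 := S.mem_conj m.xD y h3
    rw [e] at h4
    have h5 := (C.mem_iff S m e1 (lx.norm y h2 b hb)).1 (S.nw_of_third' m (lx.norm y h2 b hb) h4)
    rw [f2 b hb, eb, c2 (f _)] at h5
    obtain ⟨i, hi, ei⟩ := S.md.inO_of (c1 _) (by rw [← c2]; exact f3 _ ob)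
    rw [← ei] at h5 ⊢
    refine ((ol_spec hi).2.2.2.1 (lt_of_mem (ol_spec hi).2.1 (by decide) h5)).resolve_left fun k => ?_
    have h6 := c2 (f (vd (a * 2)))
    rw [← ei, k, ← f4] at h6
    have := vd_inj (by have := lt a ha; omega) (by decide) (f.injective h6)
    omega
  obtain ⟨a, ha, ea⟩ := exists_fixed_of_odd (Y := {a | a ∈ CS}) (σ := fun a => cd (f (vd (a * 2))) / 2)
    (by rw [← List.coe_toFinset, Set.ncard_coe_finset]; decide) f5 fun a ha => by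
      have h3 := lt a ha
      have h4 : f (vd (cd (f (vd (a * 2))) / 2 * 2)) = vd (a * 2) ∨
          f (vd (cd (f (vd (a * 2))) / 2 * 2)) = vd (a * 2 ^^^ 1) := by
        rcases vd_half (cd (f (vd (a * 2)))) with k | k <;> rw [← c2] at k
        · exact Or.inl (by rw [← k, f1])
        · exact Or.inr (by rw [vd_xor, ← v2_add_add_cancel' (vd (_ / 2 * 2)) (vd 1), ← k, map_add, f1, f4])
      have h5 : a * 2 ^^^ 1 = a * 2 + 1 := by rw [Nat.xor_one_of_even (by simp)]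
      rcases h4 with k | k <;> rw [k]
      · rw [← vd_inj (by omega) (c1 _) (c2 (vd (a * 2)))]; omega
      · rw [← vd_inj (by omega) (c1 _) (c2 (vd (a * 2 ^^^ 1)))]; omega
  obtain ⟨b, hb, eb⟩ := C.κ_surj (vd (a * 2))
  have ob : Ob ϱ (κ b) := eb ▸ S.md.ob_CS (by rwa [Nat.mul_div_cancel _ two_pos])
  have zz := S.sq n.zD
  have vz := lx.z_comm v hv
  have bz := lx.z_comm b hb
  have nb := lx.norm y h2 b hb
  rcases vd_half (cd (f (vd (a * 2)))) with k | k <;> rw [← c2, show cd _ / 2 = a from ea, ← eb, ← f2 b hb] at k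
  · rcases (C.κ_eq_iff nb hb).1 k with k | k
    · exact ⟨b, C.nw_of_ob S n hb ob, mul_inv_eq_iff_eq_mul.1 k⟩
    · refine ⟨b * v, C.nw_of_ob S n (mul_mem hb hv) ?_, mul_inv_eq_iff_eq_mul.1 ?_⟩
      · rw [C.κ_mul hb hv, eb, e1, ← vd_xor, Nat.xor_one_of_even (by simp)]
        exact S.md.ob_CS (by rwa [show (a * 2 + 1) / 2 = a by omega])
      · calc y * (b * v) * y⁻¹ = y * b * y⁻¹ * (y * v * y⁻¹) := by group
          _ = b * (z * v) * z := by rw [k, e]; group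
          _ = _ := by rw [← vz, mul_assoc, mul_assoc, zz, mul_one]
  · exfalso
    rw [← e1, ← C.κ_mul hb hv, C.κ_eq_iff nb (mul_mem hb hv)] at k
    have vv := S.sq m.xD
    have yz : y * z * y⁻¹ = z := by rw [h2, mul_inv_cancel_right]
    refine S.ne_one n.zD (mul_left_cancel (a := b) ?_)
    have h3 := yy b
    rcases k with k | k <;> rw [k] at h3
    · calc b * z = b * (v * v) * z := by rw [vv, mul_one]
        _ = y * b * y⁻¹ * (y * v * y⁻¹) := by rw [k, e]; group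
        _ = y * (b * v) * y⁻¹ := by group
        _ = _ := by rw [mul_one, h3]
    · calc b * z = b * (v * v) * (z * z) * z := by rw [vv, zz]; group
        _ = b * v * (v * z) * z * z := by group
        _ = y * b * y⁻¹ * (y * v * y⁻¹) * (y * z * y⁻¹) := by rw [k, e, yz, vz]; nth_rewrite 2 [← vz]; group
        _ = y * (b * v * z) * y⁻¹ := by group
        _ = _ := by rw [mul_one, h3]

end CL.E6U
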