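import Cfsg.Agent.SPOR.E6U.TCT3

/-!
Long root elements of `²E₆(2)`.
-/

set_option autoImplicit false

namespace CL.E6U.Tc

open CL.CE CL.Chev CL.E62 CL.M4 Cfsg.Lie

/-- words for the long roots -/
def dl (r : Rt chevF4) : List I4 := ([[3, 2, 1, 2, 0, 1, 2, 3], [2, 1, 2, 0, 1, 2, 3], [1, 2, 0, 1, 2, 3], [],
  [2, 0, 1, 2, 3], [0, 1, 2, 3], [0, 1, 2, 3, 2], [], [], [], [], [], [], [], [], [2, 1, 2, 3], [1, 2, 3], [1, 2, 3, 2],
  [], [], [], [2, 3], [2, 3, 2], [3], [], [3, 2], [2], [], [], [], [3, 1, 2], [1, 2], [2, 1, 2], [], [], [], [], [], [],
  [], [], [3, 0, 1, 2], [0, 1, 2], [2, 0, 1, 2], [], [1, 2, 0, 1, 2], [2, 1, 2, 0, 1, 2],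
  [3, 2, 1, 2, 0, 1, 2]].getD r []).map ix

/-- the code of the highest root element -/
def zc : ℕ := 0x8000000000000000000100000000000000000002000000000000000000040000000000000000000a00000000000000000010000000000000000000200000000000000000004000000000000000000080000000000000000001000000000000000000020000000000000000000400000000000000000008000000000000000000100000000000000000002000000000000000000040000000000000000000800000000000000000010000000000000000000200000000000000000004000000000000000000080000000000000000001000000000000000000020000000000000000000400000000000000000008000000000000000000100000000000000000002000000000000000000040000000000000000000800000000000000000010000000000000000000200000000000000000004000000000000000000080000000000000000001000000000000000000020000000000000000000400000000000000000008000000000000000000100000000000000000002000000000000000000040000000000000000000800000000000000000010000000000000000000200000000000000000004000000000000000000080000000000000000001000000000000000000020000000000000000000400000000000000000008000000000000000000100000000000000000002000000000000000000040000000100000000000800000002000000000010000000040000000000200000000800000000004000000010000000000080000000200000000001000000004000000000020000000080000000000400000001000000000008000000020000000000100000000000000000002000000000000000000040000000000000000000800000000000000000010000000000000000000200000000800000000004000000010000000000080000000200000000001000000004000000000020000000080000000000400000001000000000008000000020000000000100000000400000000002000000008000000000040000000100000000000a9800000000000000001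

theorem chk6 : ∀ r, r = rt 47 ∨ (ac (dl r) (sm (ix 3)) = r ∧ (∀ a ∈ cjw (dl r) 0, a < 16) ∧
    wd gc (cjw (dl r) 0) % 2 ^ (78 * 78) ≠ zc) ∨ len r ≠ len (rt 47) := by
  decide +kernel

theorem chk7 : ac (dl (rt 47)) (sm (ix 3)) = rt 47 ∧ (∀ a ∈ cjw (dl (rt 47)) 0, a < 16) ∧
    wd gc (cjw (dl (rt 47)) 0) % 2 ^ (78 * 78) = zc ∧
    ∀ r, (rootSys chevF4).ht r ≤ 11 ∧ (rootSys chevF4).ht (rt 47) = 11 := by decide +kernel

/-- a relator of the model -/
def M2 (w : List ℕ) : Prop := (∀ a ∈ w, a < 16) ∧ wd gc w = F2M.oneC 78

noncomputable instance (w : List ℕ) : Decidable (M2 w) := inferInstanceAs (Decidable (_ ∧ _))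

theorem chk9 : (∀ i < 16, M2 [i, i]) ∧ (∀ i < 2, ∀ j < 16, 4 ≤ j → M2 [i, j, i, j]) ∧ M2 [0, 1, 0, 1, 0, 1] ∧
    M2 (yy 3 ++ [3]) ∧ M2 (yy 5 ++ [1]) ∧ ∀ p : ZMod 6, M2 (yy p.val ++ yy p.val) ∧
      M2 (yy p.val ++ yy (p + 1).val ++ yy p.val ++ yy (p + 1).val) ∧
      M2 (yy p.val ++ yy (p + 2).val ++ yy p.val ++ yy (p + 1).val ++ yy (p + 2).val) := by decide +kernel

end CL.E6U.Tc
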