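import Cfsg.Agent.SPOR.E6U.TCT4
import Cfsg.Agent.SPOR.E6U.TCT5

/-!
The Curtis–Tits theorem for `²E₆(2)`.
-/

set_option autoImplicit false

namespace CL.E6U

open CL.CE CL.Chev CL.E62 CL.M4 Cfsg.Lie Subgroup Set Tc

namespace Tc

theorem low_eq {K : Type*} [Field K] [CharP K 2] {ω : K} (hω : ω ^ 2 + ω + 1 = 0) {n a b : ℕ}
    (h : dec ω n a = dec ω n b) : a % 2 ^ (n * n) = b % 2 ^ (n * n) := by
  refine Nat.eq_of_testBit_eq fun p => ?_
  rw [Nat.testBit_mod_two_pow, Nat.testBit_mod_two_pow]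
  by_cases hp : p < n * n
  swap
  · simp [hp]
  have hn : 0 < n := Nat.pos_of_ne_zero fun e => by simp [e] at hp
  have := congrFun₂ h ⟨p % n, Nat.mod_lt _ hn⟩ ⟨p / n, Nat.div_lt_of_lt_mul hp⟩
  simp only [dec_apply, Nat.div_add_mod] at this
  have h2 : (2 : K) = 0 := CharTwo.two_eq_zero
  have w0 : ω ≠ 0 := fun e => by simp [e] at hω
  have w1 : ω ≠ 1 := fun e => one_ne_zero (α := K) (by rw [e] at hω; linear_combination hω - h2)
  have w2 : ω + 1 ≠ 0 := fun e => w1 (by linear_combination e - h2)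
  revert this
  cases a.testBit p <;> cases b.testBit p <;> cases a.testBit (n * n + p) <;> cases b.testBit (n * n + p) <;>
    simp [w0, w1, w1.symm, w2, add_comm, w2.symm]

theorem model {K : Type*} [Field K] [CharP K 2] {ω : K} (hω : ω ^ 2 + ω + 1 = 0) {γ : ℕ → twistedE6 K 2}
    (hγ : ∀ i < 16, rh K (γ i) = dec ω 78 (gc.getD i 0)) : TH γ := by
  have k : ∀ {w}, M2 w → ev γ w = 1 := fun h => rh_injective (by rw [ev, rh_wd hω hγ h.1, h.2, dec_one, map_one])
  obtain ⟨c1, c2, c3, c4, c5, c6⟩ := chk9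
  have sq : ∀ i < 16, γ i * γ i = 1 := fun i hi => by simpa [ev] using k (c1 i hi)
  have iv : ∀ i < 16, (γ i)⁻¹ = γ i := fun i hi => inv_eq_of_mul_eq_one_right (sq i hi)
  have s : ∀ p : ZMod 6, (ev γ (yy p.val))⁻¹ = ev γ (yy p.val) := fun p =>
    inv_eq_of_mul_eq_one_right (by simpa only [ev_append] using k (c6 p).1)
  refine ⟨sq, ⟨fun p => ev γ (yy p.val), ⟨fun p => by simpa only [ev_append] using k (c6 p).1, fun p => ?_,
    fun p => ?_⟩, ev_singleton .., ?_, ev_singleton .., ?_⟩, ?_, fun i hi j h1 h2 => ?_, fun r hr => k (chk8 r hr)⟩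
  · have := k (c6 p).2.1
    simp only [ev_append] at this
    rwa [mul_assoc, mul_eq_one_iff_eq_inv, mul_inv_rev, s, s] at this
  · have := k (c6 p).2.2
    simp only [ev_append] at this
    rwa [mul_assoc, mul_eq_one_iff_eq_inv, mul_inv_rev, s, s] at this
  · have := k c4
    rwa [ev_append, ev_singleton, mul_eq_one_iff_eq_inv, iv 3 (by decide)] at this
  · have := k c5
    rwa [ev_append, ev_singleton, mul_eq_one_iff_eq_inv, iv 1 (by decide)] at this
  · have := k c3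
    rw [show [0, 1, 0, 1, 0, 1] = [0, 1, 0] ++ [1, 0, 1] from rfl, ev_append, mul_eq_one_iff_eq_inv] at this
    simpa [ev, mul_assoc, iv 0, iv 1] using this
  · have := k (c2 i hi j h2 h1)
    rw [show [i, j, i, j] = [i, j] ++ [i, j] from rfl, ev_append, mul_eq_one_iff_eq_inv] at this
    simpa [ev, mul_assoc, iv i (by omega), iv j h2, commute_iff_eq] using this

end Tc

theorem TH.prod {G G' : Type*} [Group G] [Group G'] {g : ℕ → G} {γ : ℕ → G'} (T : TH g) (T' : TH γ) :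
    TH fun i => (g i, γ i) := by
  obtain ⟨h, H, h0, h3, h2, h5⟩ := T.hex
  obtain ⟨h', H', h0', h3', h2', h5'⟩ := T'.hex
  exact ⟨fun i hi => Prod.ext (T.sq i hi) (T'.sq i hi), ⟨fun p => (h p, h' p), ⟨fun p => Prod.ext (H.sq p) (H'.sq p),
    fun p => Prod.ext (H.comm p) (H'.comm p), fun p => Prod.ext (H.conj p) (H'.conj p)⟩, Prod.ext h0 h0',
    Prod.ext h3 h3', Prod.ext h2 h2', Prod.ext h5 h5'⟩, Prod.ext T.br T'.br,
    fun i hi j h1 h2 => Prod.ext (T.cm i hi j h1 h2) (T'.cm i hi j h1 h2),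
    fun r hr => Prod.ext ((map_ev (MonoidHom.fst G G') ..).trans (T.hR r hr)) ((map_ev (MonoidHom.snd G G') ..).trans (T'.hR r hr))⟩

theorem TH.commute {G G' : Type*} [Group G] [Group G'] {g : ℕ → G} (T : TH g) (π : G →* G')
    (hd : ∀ r, π (ev g (cjw (dl r) 0)) = π (ev g (cjw (dl (rt 47)) 0)) →
      (∀ a ∈ cjw (dl r) 0, a < 16) → wd gc (cjw (dl r) 0) % 2 ^ (78 * 78) = zc)
    {k c : G} (hk : k ∈ closure (g '' Iio 16)) (e : π k = 1) (hc : c ∈ closure (g '' Iio 16)) :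
    Commute k (c * g 0 * c⁻¹) := by
  let C := T.rg.full T.cm'
  have k1 : closure (g '' Iio 16) ≤ closure (range C.n ∪ ⋃ i, C.Y ((rootSys chevF4).simple i)) := by
    rw [closure_le]
    rintro _ ⟨a, ha, rfl⟩
    have y : ∀ i, ∀ b ∈ Xs i, g b ∈ closure (range C.n ∪ ⋃ i, C.Y ((rootSys chevF4).simple i)) := fun i b hb =>
      subset_closure (.inr (mem_iUnion.2 ⟨i, (T.rg.Z_simple i).ge (.inr ⟨b, hb, rfl⟩)⟩))
    have n : ∀ i, ev g (nw1 i) ∈ closure (range C.n ∪ ⋃ i, C.Y ((rootSys chevF4).simple i)) := fun i =>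
      subset_closure (.inl ⟨i, rfl⟩)
    obtain ⟨i, h | rfl | ⟨b, hb, h⟩⟩ := chk5 a ha
    · exact y i a h
    · have := mul_mem (mul_mem (inv_mem (y i _ (chk1 i).1)) (n i)) (inv_mem (y i _ (chk1 i).1))
      simpa [nw1, ev, mul_assoc] using this
    · rw [← T.of_ok ha h, ev_append, ev_append, ev_singleton]
      exact mul_mem (mul_mem (n i) (y i b hb)) (n i)
  have m : C.nw (dl (rt 47)) ∈ closure (g '' Iio 16) := list_prod_mem fun x hx => by
    obtain ⟨i, -, rfl⟩ := List.mem_map.1 hx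
    exact ev_mem fun a ha => subset_closure ⟨a, nw1_lt i a ha, rfl⟩
  have m' := mul_mem m (inv_mem hc)
  have := C.commute π (i := ix 3) (y := g 0) ((ac_eq ..).trans chk7.1) (by rw [RootSys.IsPos, (chk7.2.2.2 (rt 47)).2]; decide)
    (by
      rintro s hs r ⟨a, b, ha, hb, h⟩
      have h1 := RootSys.ht_W_lin (one_mem _) h
      have h2 := chk7.2.2.2 r
      simp only [Equiv.Perm.coe_one, id_eq, h2.2] at h1
      have := mul_pos (Int.natCast_pos.2 hb) hs
      omega)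
    ((T.rg.Z_simple _).ge (.inr ⟨0, by decide, rfl⟩))
    (fun a ha => ((T.rg.Z_simple _).le ha).imp_right fun ⟨b, hb, h⟩ => by rw [h, List.mem_singleton.1 hb])
    (fun r => (chk6 r).imp_right (Or.imp (fun h => ⟨dl r, (ac_eq ..).trans h.1, fun e => h.2.2 (hd r (by
      rw [T.ev_cjw, T.ev_cjw]; exact e) h.2.1)⟩) fun h e => h (Nat.cast_injective (R := ℤ) e)))
    (k1 (mul_mem (mul_mem m' hk) (inv_mem m'))) (by simp [e])
  have := this.map (MulAut.conj (C.nw (dl (rt 47)) * c⁻¹)⁻¹)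
  simp only [MulAut.conj_apply] at this
  convert this using 1 <;> group

theorem tct {G : Type*} [Group G] {K : Type*} [Field K] [Fintype K] (hK : Fintype.card K = 4) {g : ℕ → G}
    (sq : ∀ i < 16, g i * g i = 1)
    (hex : ∃ h, D42.Hex h ∧ h 0 = g 2 ∧ h 3 = g 3 ∧ h 2 = g 0 ∧ h 5 = g 1)
    (br : g 0 * g 1 * g 0 = g 1 * g 0 * g 1)
    (cm : ∀ i < 2, ∀ j, 4 ≤ j → j < 16 → Commute (g i) (g j))
    (hR : ∀ r ∈ R234, ev g r = 1)
    (hN : ∀ k ∈ Subgroup.closure (g '' Set.Iio 16),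
      (∀ c ∈ Subgroup.closure (g '' Set.Iio 16), Commute k (c * g 0 * c⁻¹)) → k = 1) :
    ∃ φ : twistedE6 K 2 →* G, φ.range = Subgroup.closure (g '' Set.Iio 16) ∧
      ∀ u, orderOf u = 2 → ∃ c, φ (c * u * c⁻¹) = g 0 ∨ φ (c * u * c⁻¹) = ev g (zw ++ [2]) ∨
        φ (c * u * c⁻¹) = ev g (zw ++ [2] ++ n3 ++ [2] ++ n3) := by
  have := charP_of_natCard Nat.prime_two (F := K) (n := 2) (by rw [Nat.card_eq_fintype_card, hK]; rfl)
  obtain ⟨ω, hω⟩ := CL.F4.exists_root hK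
  choose γ hγ using exists_gen hω
  have T := TH.prod ⟨sq, hex, br, cm, hR⟩ (model hω hγ)
  set E := closure ((fun i => (g i, γ i)) '' Iio 16)
  have e1 : E.map (.fst ..) = closure (g '' Iio 16) := by rw [MonoidHom.map_closure, image_image]; rfl
  have e2 : E.map (.snd ..) = ⊤ := by rw [MonoidHom.map_closure, image_image]; exact gen_top hω hK hγ
  let ψ := MulEquiv.ofBijective ((MonoidHom.snd ..).comp E.subtype) ⟨(injective_iff_map_eq_one _).2 fun k hk =>
    Subtype.ext (Prod.ext (hN _ (e1.le ⟨_, k.2, rfl⟩) fun c hc => by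
      obtain ⟨c, hc', rfl⟩ := e1.ge hc
      exact (T.commute (.snd ..) (fun r e h => chk7.2.2.1 ▸ low_eq hω (by
        rw [← rh_wd hω hγ h, ← rh_wd hω hγ chk7.2.1]
        exact congrArg _ ((map_ev ..).symm.trans (e.trans (map_ev ..))))) k.2 hk hc').map (MonoidHom.fst ..)) hk),
    fun t => let ⟨x, h, e⟩ := e2.ge (mem_top t); ⟨⟨x, h⟩, e⟩⟩
  let φ := ((MonoidHom.fst ..).comp E.subtype).comp ψ.symm.toMonoidHom
  have k : ∀ i < 16, φ (γ i) = g i := fun i hi =>
    congrArg (fun x : E => x.1.1) (ψ.symm_apply_apply ⟨(g i, γ i), subset_closure ⟨i, hi, rfl⟩⟩)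
  have k' : ∀ w : List ℕ, (∀ a ∈ w, a < 16) → φ (ev γ w) = ev g w := fun w hw =>
    (map_ev ..).trans (ev_congr fun a ha => k a (hw a ha))
  refine ⟨φ, ?_, fun u hu => (classes hω hK hγ u hu).imp fun c h => h.imp (fun h => by rw [h, k 0 (by decide)])
    (Or.imp (fun h => by rw [h, k' _ (by decide)]) fun h => by rw [h, k' _ (by decide)])⟩
  rw [MonoidHom.range_eq_map, ← gen_top hω hK hγ, MonoidHom.map_closure, image_image]
  exact congrArg _ (image_congr k)

end CL.E6U
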