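import Cfsg.Agent.SPOR.E6U.ModD

/-!
The faithful module of degree twenty over `𝔽₂` of `U₆(2)` is unique.
-/

set_option autoImplicit false
set_option maxRecDepth 100000
set_option exponentiation.threshold 512

namespace CL.E6U

open CL.LE CL.TTU CL.TTU.U6 CL.FiRec CL.PM CL.F2M
open CL.K hiding lall lall_iff lany lany_iff

variable {X : Type*} [Group X] {E : Set X} {t : ℕ → X}

attribute [local irreducible] mu ac MT N0 N0i WM Pm Pi I20 M

theorem pow3 {a : X} (h : a ^ 3 = 1) (i j : ZMod 3) : a ^ (i + j).val = a ^ i.val * a ^ j.val := by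
  rw [← pow_add, ZMod.val_add, ← pow_eq_pow_mod _ h]

/-- the subgroup `3⁴` -/
def al (t : ℕ → X) (x : A) : X := wd t (aw x)

theorem al_one (t : ℕ → X) : al t (1, 0, 0, 0) = wd t (AW 0) ∧ al t (0, 1, 0, 0) = wd t (AW 1) ∧
    al t (0, 0, 1, 0) = wd t (AW 2) ∧ al t (0, 0, 0, 1) = wd t (AW 3) := ⟨rfl, rfl, rfl, rfl⟩

theorem exists_cd (ϱ : X →* (V ≃ₗ[ZMod 2] V)) (g : X) : ∃ c < 2 ^ 400, Cd ϱ g c :=
  ⟨_, mcode_lt (LinearMap.toMatrix' (ϱ g).toLinearMap), fun w => by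
    rw [M, mdec_mcode, Matrix.mulVecLin_apply, ← Matrix.toLin'_apply, Matrix.toLin'_toMatrix']; rfl⟩

theorem Cd.inv {ϱ : X →* (V ≃ₗ[ZMod 2] V)} {g : X} {a b : ℕ} (h : Cd ϱ g a) (e : mu a b = I20) :
    Cd ϱ g⁻¹ b := fun w => by
  nth_rewrite 1 [← M_one w]
  rw [← e, M_mu, ← h, ← σ_mul, inv_mul_cancel, σ_one]

namespace UX

variable (U : UX E t)
include U

theorem al_add (x y : A) : al t (x + y) = al t x * al t y := by
  have h := allLt_iff.1 chk_a.1
  have c : ∀ i < 4, ∀ j < 4, ∀ m n, Commute (wd t (AW i) ^ m) (wd t (AW j) ^ n) := fun i hi j hj m n =>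
    Commute.pow_pow (by
      have := U.eqv (allLt_iff.1 (an_iff.1 (h i hi)).2 j hj)
      rwa [wd_append, wd_append] at this) m n
  have p : ∀ i < 4, wd t (AW i) ^ 3 = 1 := fun i hi => wd_rp t 3 _ ▸ U.rel (an_iff.1 (h i hi)).1
  simp only [al, aw, wd_append, wd_rp, Prod.fst_add, Prod.snd_add]
  rw [pow3 (p 0 (by decide)), pow3 (p 1 (by decide)), pow3 (p 2 (by decide)), pow3 (p 3 (by decide)),
    (c 2 (by decide) 3 (by decide) _ _).mul_mul_mul_comm,
    ((c 1 (by decide) 2 (by decide) _ _).mul_right (c 1 (by decide) 3 (by decide) _ _)).mul_mul_mul_comm,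
    ((c 0 (by decide) 1 (by decide) _ _).mul_right ((c 0 (by decide) 2 (by decide) _ _).mul_right
      (c 0 (by decide) 3 (by decide) _ _))).mul_mul_mul_comm]

theorem al_cj {s : ℕ} (hs : s ∈ S6) (x : A) : al t x * t s = t s * al t (lin4 (col s) x) := by
  have h := lall_iff.1 chk_col s hs
  simp only [an_iff] at h
  have k : ∀ {a b}, E6U.eqv (aw a ++ [s]) (s :: aw b) = true → al t a * t s = t s * al t b := fun h => by
    have := U.eqv h
    rwa [wd_append, wd_one, wd_cons] at this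
  exact cj_lin4 U.al_add (k h.1) (k h.2.1) (k h.2.2.1) (k h.2.2.2) x

variable {V' : Type*} [AddCommGroup V'] [Module (ZMod 2) V'] {σ : X →* (V' ≃ₗ[ZMod 2] V')}

theorem W_wd {w : List ℕ} (hw : ∀ s ∈ w, s ∈ S6) {μ : A} {v : V'} (hv : v ∈ W σ (al t) μ) :
    σ (wd t w) v ∈ W σ (al t) (Tw w μ) := by
  induction w with
  | nil => rwa [wd_nil, σ_one]
  | cons s w ih =>
    rw [wd_cons, σ_mul]
    exact W_map (U.al_cj (hw s List.mem_cons_self)) (ih fun a ha => hw a (List.mem_cons_of_mem _ ha))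

theorem li' {n : ℕ} {g : ℕ → List ℕ} {μ x : A} (h : Sep n g μ) (hx : dot μ x ≠ 0) {u : V'}
    (hu : u ∈ W σ (al t) μ) (h0 : u ≠ 0) :
    LinearIndependent (ZMod 2) (fam σ (fun i : Fin n => wd t (g i)) (al t x) u) :=
  li U.al_add hu h0 hx (fun i _ hv => U.W_wd (h.2 i) hv) h.1

theorem exists_u (hi : Function.Injective σ) (hd : Module.finrank (ZMod 2) V' = 20) :
    ∃ u ∈ W σ (al t) (0, 0, 1, 0), u ≠ 0 ∧ σ (wd t tau) u = u := by
  have : Module.Finite (ZMod 2) V' := Module.finite_of_finrank_pos (by omega)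
  obtain ⟨v, hv⟩ : ∃ v, σ (al t (1, 0, 0, 0)) v ≠ v := by
    by_contra h
    push Not at h
    have := hi ((LinearEquiv.ext h).trans (map_one σ).symm)
    have c := an_iff.1 chk_a.2
    exact no_iff.1 c.2 ((cenW_iff U.R (okW_iff.1 c.1)).2 fun x _ => by
      rw [← (al_one t).1, this]; exact Commute.one_left x)
  obtain ⟨μ, hμ, u, hu, h0⟩ := exists_W U.al_add hv
  obtain ⟨w, -, h1, h2⟩ := chk_PW μ hμ
  have h3 := U.W_wd h1 hu
  have h4 : σ (wd t w) u ≠ 0 := (map_ne_zero_iff _ (σ _).injective).2 h0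
  generalize σ (wd t w) u = u at h3 h4
  rcases h2 with e | e | e <;> rw [e] at h3
  · by_cases h : σ (wd t tau) u = u
    · exact ⟨u, h3, h4, h⟩
    have h5 := U.W_wd chk_tau.1 h3
    refine ⟨u + σ (wd t tau) u, add_mem h3 fun x => ⟨fun e => (h5 x).1 ((chk_tau.2.2.1 x).2 e),
      fun e => (h5 x).2 (mt (chk_tau.2.2.1 x).1 e)⟩, fun e => h (v2_add_eq_zero.1 e).symm, ?_⟩
    rw [map_add, ← σ_mul, ← wd_append, U.rel chk_tau.2.1, σ_one, add_comm]
  · simpa [hd] using (U.li' sep1 (x := (0, 0, 0, 1)) (by decide) h3 h4).fintype_card_le_finrank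
  · simpa [hd] using (U.li' sep2 (x := (0, 0, 0, 1)) (by decide) h3 h4).fintype_card_le_finrank

theorem exists_basis (hi : Function.Injective σ) (hd : Module.finrank (ZMod 2) V' = 20) :
    ∃ β : V ≃ₗ[ZMod 2] V', ∀ i < 6, Cd (cjR σ β) (t (G6 i)) (WM (G6 i)) := by
  obtain ⟨u, hu, h0, hτ⟩ := U.exists_u hi hd
  have l := U.li' sep0 (x := (0, 0, 1, 0)) (by decide) hu h0
  let b := basisOfLinearIndependentOfCardEqFinrank l (by simp [hd])
  have hb : ∀ p, b p = fam σ (fun i : Fin 10 => wd t (GW i)) (al t (0, 0, 1, 0)) u p := fun p =>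
    congrFun (coe_basisOfLinearIndependentOfCardEqFinrank _ _) p
  set a := al t (0, 0, 1, 0) with ha
  have aa : σ a (σ a u) = u + σ a u := (v2_add_eq_zero.1 ((hu _).2 (by decide))).symm
  have a0 : σ a u ≠ 0 := (map_ne_zero_iff _ (σ _).injective).2 h0
  have fx : ∀ k < 8, σ (wd t (SG k)) u = u := by
    have k1 : ∀ s ∈ [0, 2, 11, 23], σ (wd t [s]) u = u := fun s hs => by
      obtain ⟨s1, s2, s3, s4⟩ := chk_tau.2.2.2 s hs
      have m := s3 ▸ U.W_wd (w := [s]) (by simpa using s1) hu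
      rw [wd_one] at m ⊢
      have c : σ a (σ (t s) u) = σ (t s) (σ a u) := by
        rw [← σ_mul, U.al_cj s1, σ_mul, ← add_sub_cancel (0, 0, 1, 0) (lin4 _ _), r_add U.al_add,
          (hu _).1 s4]
      have q : σ (t s) (σ (t s) u) = u := by rw [← σ_mul, U.R.fs.sq (U.R.mem s2), σ_one]
      have e := pj_fam U.al_add (x := (0, 0, 1, 0)) hu (fun i _ hv => U.W_wd (sep0.2 i) hv) sep0.1
        (b.repr (σ (t s) u)) 0
      rw [show fam σ _ _ u = b from (funext hb).symm, b.sum_repr,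
        pj_fix (μ := Tw (GW (0 : Fin 10)) (0, 0, 1, 0)) fun x => (m x).1,
        show wd t (GW (0 : Fin 10)) = 1 from rfl, σ_one, ← ha] at e
      generalize b.repr (σ (t s) u) (0, 0) = c0 at e
      generalize b.repr (σ (t s) u) (0, 1) = c1 at e
      rcases z2_cases' c0 with rfl | rfl <;> rcases z2_cases' c1 with rfl | rfl <;>
        simp only [zero_smul, one_smul, add_zero, zero_add] at e
      · exact absurd ((map_eq_zero_iff _ (σ _).injective).1 e) h0
      · rw [e, ← c, e, aa] at q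
        exact absurd (by simpa using q) a0
      · exact e
      · rw [e, map_add, ← c, e, map_add, aa, add_left_comm, v2_add_self, add_zero] at q
        rw [q, q, v2_add_self] at aa
        exact absurd aa h0
    intro k hk
    interval_cases k
    exacts [k1 0 (by simp), k1 2 (by simp), k1 11 (by simp), k1 23 (by simp), hτ,
      (hu (1, 0, 0, 0)).1 (by decide), (hu (0, 1, 0, 0)).1 (by decide), (hu (0, 0, 0, 1)).1 (by decide)]
  have fw : ∀ w : List ℕ, (∀ k ∈ w, k < 8) → σ (wd t (w.flatMap SG)) u = u := fun w hw => by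
    induction w with
    | nil => exact σ_one _ _
    | cons k w ih => rw [List.flatMap_cons, wd_append, σ_mul, ih fun a ha => hw a (List.mem_cons_of_mem _ ha),
        fx k (hw k List.mem_cons_self)]
  let β : V ≃ₗ[ZMod 2] V' := (b.reindex (finProdFinEquiv (m := 10) (n := 2))).equivFun.symm
  have hβ : ∀ j < 20, β (vd (2 ^ j)) = σ (wd t (BW j)) u := fun j hj => by
    rw [show vd (2 ^ j) = _ from vdec_two_pow (⟨j, hj⟩ : Fin 20), LinearEquiv.symm_apply_eq]
    rw [show σ (wd t (BW j)) u = b.reindex (finProdFinEquiv (m := 10) (n := 2)) ⟨j, hj⟩ from ?_]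
    · ext i; rw [Module.Basis.equivFun_self, Pi.single_apply]; simp only [eq_comm]
    rw [Module.Basis.reindex_apply, hb, BW, wd_append, σ_mul, wd_rp, fam]
    congr 1
    rcases Nat.mod_two_eq_zero_or_one j with e | e
    · rw [if_pos (Fin.ext e), e, pow_zero, σ_one]
    · rw [if_neg fun h => Nat.zero_ne_one ((congrArg Fin.val h).symm.trans e), e, pow_one]; rfl
  have hc : ∀ k < 10, ∀ e < 3, β (vd (cv k e)) = σ (wd t (GW k ++ rp e (AW 2))) u := fun k hk e he => by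
    have b0 := hβ (2 * k) (by omega)
    have b1 := hβ (2 * k + 1) (by omega)
    rw [BW, show 2 * k / 2 = k by omega, show 2 * k % 2 = 0 by omega] at b0
    rw [BW, show (2 * k + 1) / 2 = k by omega, show (2 * k + 1) % 2 = 1 by omega] at b1
    have : ∀ k < 10, cv k 0 = 2 ^ (2 * k) ∧ cv k 1 = 2 ^ (2 * k + 1) ∧
      cv k 2 = 2 ^ (2 * k) ^^^ 2 ^ (2 * k + 1) := by decide +kernel
    interval_cases e
    · rw [(this k hk).1, b0]
    · rw [(this k hk).2.1, b1]
    · rw [(this k hk).2.2, vd_xor, map_add, b0, b1]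
      simp only [wd_append, σ_mul, wd_rp, pow_zero, pow_one, pow_two, σ_one, ← map_add]
      exact congrArg _ aa.symm
  refine ⟨β, fun i hi => ext_vd (f := (cjR σ β (t (G6 i))).toLinearMap) fun j hj => ?_⟩
  have c := allLt_iff.1 (allLt_iff.1 chk_CT i hi) j hj
  simp only [an_iff, blt_iff, beq_iff, lall_iff] at c
  rw [M_vd, c.2.2.2.2, LinearEquiv.coe_coe, cjR_apply, LinearEquiv.symm_apply_eq, hβ j hj,
    hc _ c.2.1 _ c.2.2.1, ← σ_mul, ← wd_cons, U.eqv c.1, wd_append, σ_mul, fw _ c.2.2.2.1]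

variable {ϱ : X →* (V ≃ₗ[ZMod 2] V)}

theorem cd_n (h : ∀ i < 6, Cd ϱ (t (G6 i)) (WM (G6 i))) : Cd ϱ (wd t nw) N0 := by
  have h6 : ∀ {w}, in6 w = true → Cd ϱ (wd t w) (wm WM w) := fun hw => cd_wm fun s hs => by
    have := lmem_iff.1 (lall_iff.1 hw s hs)
    simp only [List.mem_cons, List.not_mem_nil, or_false] at this
    rcases this with rfl | rfl | rfl | rfl | rfl | rfl
    exacts [h 0 (by decide), h 1 (by decide), h 2 (by decide), h 3 (by decide), h 4 (by decide),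
      h 5 (by decide)]
  obtain ⟨φ, hφ⟩ : ∃ φ : V →ₗ[ZMod 2] V, ∀ w, φ w = M N0i (ϱ (wd t nw) w) :=
    ⟨M N0i ∘ₗ (ϱ (wd t nw)).toLinearMap, fun _ => rfl⟩
  let C : ℕ → Prop := fun c => ∀ w, φ (M c w) = M c (φ w)
  have c1 : C I20 := fun w => by rw [M_one, M_one]
  have c2 : ∀ {a b}, C a → C b → C (mu a b) := fun ha hb w => by rw [M_mu, M_mu, ha, hb]
  have c3 : ∀ {a b}, C a → C b → C (a ^^^ b) := fun ha hb w => by rw [M_xor, M_xor, map_add, ha, hb]
  have c4 : ∀ {a}, C a → C (nm a) := fun ha => by rw [nm, force_eq]; exact c3 (c3 c1 ha) (c2 ha ha)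
  have c5 : ∀ k < 5, C (YM k) := fun k hk w => by
    have c := allLt_iff.1 chk_Y.1 k hk
    simp only [an_iff, beq_iff] at c
    have e := U.eqv c.1
    rw [wd_append, wd_append] at e
    rw [hφ, hφ, ← M_mu, ← c.2.2.2, M_mu, ← h6 c.2.2.1, YM, ← h6 c.2.1, ← σ_mul, e, σ_mul]
  have c6 : ∀ w : List ℕ, (∀ k ∈ w, k < 5) → C (wm YM w) := fun w hw => by
    induction w with
    | nil => exact c1
    | cons k w ih => exact c2 (c5 k (hw k List.mem_cons_self)) (ih fun a ha => hw a (List.mem_cons_of_mem _ ha))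
  have p0 : C P0 := c2 (c2 (c4 (c5 0 (by decide))) (c4 (c5 1 (by decide)))) (c4 (c5 2 (by decide)))
  have p1 : C P1 := c2 (c2 (c4 (c6 _ (by decide))) (c4 (c6 _ (by decide)))) (c3 c1 (c4 (c6 _ (by decide))))
  have k : ∀ {P v m}, C P → ac P v = v → allLt (fun k => Nat.blt (fld 20 1048575 P k) (2 ^ m)) 20 = true →
      ∃ a < 2 ^ m, φ (vd v) = vd a ∧ ac P a = a := fun {P v m} hP e hm => by
    obtain ⟨a, ha, ea⟩ := exists_vd (φ (vd v))
    have := hP (vd v)
    rw [M_vd, e, ea, M_vd] at this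
    have := vd_inj ha (ac_lt _ _) this
    exact ⟨a, this ▸ ac_lt' hm a, ea, this.symm⟩
  obtain ⟨a, a1, a2, -⟩ := k p0 chk_P.1 chk_P.2.2.2.1
  obtain ⟨b, b1, b2, -⟩ := k p0 chk_P.2.1 chk_P.2.2.2.1
  obtain ⟨c, d1, d2, d3⟩ := k p1 chk_P.2.2.1 chk_P.2.2.2.2.1
  have F := chk_F
  rw [force_eq, force_eq] at F
  have F := imp_iff.1 (allLt_iff.1 (allLt_iff.1 (allLt_iff.1 F a a1) b b1) c d1) (beq_iff.2 d3)
  simp only [force_eq, an_iff, imp_iff, beq_iff, allLt_iff] at F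
  have e : ∀ w, φ w = M (cols 20 (cf a b c)) w := ext_vd fun j hj => by
    rw [M_vd, F.1 j hj]
    have y := allLt_iff.1 chk_P.2.2.2.2.2 j hj
    simp only [an_iff, ou_iff, lall_iff, blt_iff, beq_iff] at y
    rcases j with _ | _ | j
    exacts [a2, b2, by rw [← y.2.resolve_left (by omega), ← M_wm, c6 _ y.1, d2, M_wm]; rfl]
  have n : Cd ϱ (wd t nw) (mu N0 (cols 20 (cf a b c))) := fun w => by
    rw [M_mu, ← e, hφ, ← M_mu, chk_Y.2.1, M_one]
  refine F.2 ?_ ?_ ▸ n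
  · have := n.mul n
    rw [← wd_append, U.eqv chk_Y.2.2.1, wd_one] at this
    exact this.eq (h 1 (by decide)) (mu_lt _ _) (by decide +kernel)
  · have m := n.mul (h6 chk_Y.2.2.2.2.1)
    have := m.mul (m.mul m)
    rw [← wd_append, ← pow_three, ← wd_rp, U.rel chk_Y.2.2.2.1] at this
    exact this.eq cd_one (mu_lt _ _) (by decide +kernel)

/-- uniqueness of the module -/
theorem exists_md (hi : Function.Injective σ) (hd : Module.finrank (ZMod 2) V' = 20) :
    ∃ β : V ≃ₗ[ZMod 2] V', ∀ s < 693, Cd (cjR σ β) (t s) (MT s) := by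
  obtain ⟨β, h⟩ := U.exists_basis hi hd
  have n := U.cd_n h
  obtain ⟨β', k⟩ : ∃ β', ∀ {g c}, Cd (cjR σ β) g c → Cd (cjR σ β') g (mu Pi (mu c Pm)) :=
    ⟨(ME chk_Pm.1 chk_Pm.2.1).trans β, fun h w => by rw [M_mu, M_mu, ← h]; rfl⟩
  have h7 : ∀ s ∈ G7, s < 693 ∧ Cd (cjR σ β') (t s) (MT s) := fun s hs => by
    have h6 : ∀ i < 6, Cd _ (t (G6 i)) (MT (G6 i)) := fun i hi =>
      beq_iff.1 (allLt_iff.1 chk_Pm.2.2.1 i hi) ▸ k (h i hi)
    simp only [G7, List.mem_cons, List.not_mem_nil, or_false] at hs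
    rcases hs with rfl | rfl | rfl | rfl | rfl | rfl | rfl <;> refine ⟨by decide, ?_⟩
    exacts [h6 0 (by decide), h6 1 (by decide), h6 2 (by decide), h6 3 (by decide), h6 4 (by decide),
      h6 5 (by decide), by
        rw [chk_Pm.2.2.2, ← chk_Y.2.2.2.2.2.2,
          (U.R.act_spec (okW_iff.1 chk_Y.2.2.2.2.2.1) (by decide)).2, mul_assoc]
        exact k (n.mul ((h 2 (by decide)).mul (n.inv chk_Y.2.1)))]
  refine ⟨_, fun s hs => (covers_spec chk_MT.2 (Q := fun c => c < 693 ∧ Cd _ (t c) (MT c))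
    (h7 0 (by decide)) ?_ s hs rfl).2⟩
  rintro w hw c ⟨h1, h2⟩
  obtain ⟨s, hs, rfl⟩ := List.mem_map.1 hw
  obtain ⟨h3, h4⟩ := h7 s hs
  have e := lall_iff.1 chk_MT.1 s hs
  rw [force_eq] at e
  rw [act_cons, act_nil, U.R.hop s h3 c h1, beq_iff.1 (allLt_iff.1 e c h1), mul_assoc]
  exact ⟨U.R.lt s h3 c h1, h4.mul (h2.mul h4)⟩

end UX

end CL.E6U
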