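import Cfsg.Agent.SPOR.E6U.OD
import Cfsg.Agent.TECH.SylIn
import Cfsg.Agent.SPOR.LE.NLR

/-!
The flag fixed by a Sylow subgroup and the orbit of planes in the module of degree twenty.
-/

set_option autoImplicit false
set_option maxRecDepth 100000
set_option exponentiation.threshold 512
set_option linter.unusedSectionVars false

namespace CL.E6U

open CL.LE CL.MSS CL.TTU CL.TTU.U6 CL.FiRec CL.PM CL.F2M QuadraticMap
open CL.K hiding lall lall_iff lany lany_iff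

attribute [local irreducible] mu ac MT I20 M JN ol inO

variable {X : Type*} [Group X] {E : Set X} {t : ℕ → X} {ϱ : X →* (V ≃ₗ[ZMod 2] V)}

/-- the vectors with small codes -/
def F (m : ℕ) : Submodule (ZMod 2) V := v2Sub {v | ∃ c < 2 ^ m, v = vd c}
  ⟨0, Nat.two_pow_pos m, vdec_zero.symm⟩ (by
    rintro _ ⟨a, ha, rfl⟩ _ ⟨b, hb, rfl⟩; exact ⟨_, Nat.xor_lt_two_pow ha hb, (vd_xor a b).symm⟩)

theorem vd_mem {c m : ℕ} (h : c < 2 ^ m) : vd c ∈ F m := ⟨c, h, rfl⟩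

theorem vd_zero : vd 0 = 0 := vdec_zero

theorem lt_of_mem {c m : ℕ} (hc : c < 2 ^ 20) (hm : m ≤ 20) (h : vd c ∈ F m) : c < 2 ^ m := by
  obtain ⟨a, ha, e⟩ := h
  rwa [vd_inj hc (ha.trans_le (Nat.pow_le_pow_right two_pos hm)) e]

theorem vd_ne {c : ℕ} (hc : c < 2 ^ 20) (h : c ≠ 0) : vd c ≠ 0 := fun e =>
  h (vd_inj hc (by norm_num) (e.trans vd_zero.symm))

theorem mem_F1 {v : V} (h : v ∈ F 1) : v = 0 ∨ v = vd 1 := by
  obtain ⟨c, hc, rfl⟩ := h
  interval_cases c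
  exacts [Or.inl vd_zero, Or.inr rfl]

theorem F_mono {m n : ℕ} (h : m ≤ n) : F m ≤ F n := fun _ ⟨c, hc, e⟩ =>
  ⟨c, hc.trans_le (Nat.pow_le_pow_right two_pos h), e⟩

theorem F_le {m : ℕ} {S : Submodule (ZMod 2) V} (h : ∀ j < m, vd (2 ^ j) ∈ S) : F m ≤ S := by
  rintro _ ⟨c, hc, rfl⟩
  rw [pi_eq_sum_univ (vd c)]
  refine Submodule.sum_mem _ fun j _ => ?_
  by_cases hj : (j : ℕ) < m
  · refine S.smul_mem _ ?_
    convert h j hj using 1
    rw [show vd (2 ^ (j : ℕ)) = _ from vdec_two_pow j]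
    ext i; simp [Pi.single_apply, eq_comm]
  · rw [show vd c j = 0 by
      simp [vd, vdec, b2z, Nat.testBit_lt_two_pow (hc.trans_le (Nat.pow_le_pow_right two_pos (not_lt.1 hj)))],
      zero_smul]
    exact zero_mem _

theorem mem_F20 (v : V) : v ∈ F 20 := exists_vd v

theorem vd_split (c m : ℕ) : vd c = vd (c / 2 ^ m * 2 ^ m) + vd (c % 2 ^ m) := by
  rw [← vd_xor]
  congr 1
  refine Nat.eq_of_testBit_eq fun i => ?_
  rw [Nat.testBit_xor, Nat.testBit_mul_two_pow, Nat.testBit_mod_two_pow, Nat.testBit_div_two_pow]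
  by_cases h : i < m
  · simp [h, not_le.2 h]
  · simp [h, not_lt.1 h]

theorem add_mem_F {a b m : ℕ} (ha : a < 2 ^ 20) (hb : b < 2 ^ 20) (hm : m ≤ 20) :
    vd a + vd b ∈ F m ↔ a / 2 ^ m = b / 2 ^ m := by
  rw [← vd_xor, ← Nat.xor_eq_zero_iff, ← Nat.xor_div_two_pow, Nat.div_eq_zero_iff_lt (Nat.two_pow_pos m)]
  exact ⟨lt_of_mem (Nat.xor_lt_two_pow ha hb) hm, vd_mem⟩

theorem M_mem {c n m : ℕ} (h : allLt (fun k => Nat.blt (fld 20 1048575 c k) (2 ^ m)) n = true) {v : V}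
    (hv : v ∈ F n) : M c v ∈ F m := by
  obtain ⟨a, ha, rfl⟩ := hv
  rw [M_vd]
  refine vd_mem ?_
  unfold ac
  rw [F2M.act, force_eq]
  refine xorLt_lt fun k _ => ?_
  by_cases hk : k < n
  · exact bit_mul_lt (blt_iff.1 (allLt_iff.1 h k hk))
  · rw [bit_eq, Nat.testBit_lt_two_pow (ha.trans_le (Nat.pow_le_pow_right two_pos (not_lt.1 hk)))]
    simp

theorem ac_xor (c a b : ℕ) : ac c (a ^^^ b) = ac c a ^^^ ac c b :=
  vd_inj (ac_lt _ _) (Nat.xor_lt_two_pow (ac_lt _ _) (ac_lt _ _)) (by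
    rw [vd_xor, ← M_vd, ← M_vd, ← M_vd, vd_xor, map_add])

theorem yN_xor (c a b : ℕ) : yN c (a ^^^ b) = yN c a ^^^ yN c b := by
  have : (a ^^^ b) * 1024 = a * 1024 ^^^ b * 1024 := by
    simpa [Nat.shiftLeft_eq] using Nat.shiftLeft_xor_distrib (a := a) (b := b) (i := 10)
  change ac c (_ * 1024) / 2 = _
  rw [this, ac_xor]
  exact Nat.xor_div_two_pow (n := 1)

theorem allLin_spec {p : ℕ → ℕ → Bool} {f : ℕ → ℕ} (hf : ∀ a b, f (a ^^^ b) = f a ^^^ f b) {l : List ℕ} :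
    ∀ {b}, allLin p (l.map fun c => (c, f c)) b (f b) = true → ∀ m,
      p (b ^^^ lin l m) (f (b ^^^ lin l m)) = true := by
  induction l with
  | nil => intro b h m; rw [show lin [] m = 0 from rfl, Nat.xor_zero]; exact h
  | cons c l ih =>
    intro b h m
    obtain ⟨h1, h2⟩ := an_iff.1 h
    rw [force_eq, force_eq, ← hf] at h2
    rw [lin_cons]
    rcases Nat.mod_two_eq_zero_or_one m with e | e
    · simpa [e] using ih h1 (m / 2)
    · simpa [e, Nat.xor_assoc] using ih h2 (m / 2)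

theorem star {a b c : ℕ} (ha : a < 512) (hb : b < 512) (hc : c < 512) (h0 : a ≠ 0) (h1 : a ∉ CS)
    (h2 : yN (JN a) b = 0) (h3 : yN (JN a) c = 0) (h4 : b ∉ [0, a]) (h5 : c ∉ [0, a, b, a ^^^ b]) :
    yN (JN b) c ∈ CS := by
  have h := (ou_iff.1 (allLt_iff.1 chk_star a ha)).resolve_left (by simp [ou_iff, lmem_iff, h0, h1])
  rw [force_eq, force_eq, an_iff] at h
  have k : ∀ b < 512, yN (JN a) b = 0 → ∃ i < 8, b = _ := fun b hb h2 => by
    have e : ∀ m < 512, lin ((List.range 9).map (2 ^ ·)) m = m := by decide +kernel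
    have := allLin_spec (f := fun b => ac (JN a) (b * 1024)) (l := (List.range 9).map (2 ^ ·)) (b := 0)
      (fun a b => by
        rw [← ac_xor]; congr 1
        simpa [Nat.shiftLeft_eq] using Nat.shiftLeft_xor_distrib (a := a) (b := b) (i := 10))
      (by rw [List.map_map, zero_mul, vd_inj (ac_lt _ 0) (by norm_num) (b := 0)
        (by rw [← M_vd, vd_zero, map_zero])]; exact h.1) b
    rw [Nat.zero_xor, e b hb] at this
    obtain ⟨i, hi, e⟩ := anyLt_iff.1 (imp_iff.1 this (blt_iff.2 (by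
      change ac _ (b * 1024) / 2 = 0 at h2; omega)))
    exact ⟨i, hi, beq_iff.1 e⟩
  obtain ⟨i, hi, rfl⟩ := k b hb h2
  obtain ⟨j, hj, rfl⟩ := k c hc h3
  have := allLt_iff.1 h.2 i hi
  rw [force_eq, ou_iff, lmem_iff] at this
  have := allLt_iff.1 (this.resolve_left h4) j hj
  rw [force_eq, ou_iff, lmem_iff, lmem_iff] at this
  exact this.resolve_left h5

theorem inO_iff {c : ℕ} (h : inO c = true) : ∃ i < 891, ol i = c := by
  unfold inO at h
  rw [force_eq, force_eq, an_iff, blt_iff, beq_iff] at h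
  exact ⟨_, h⟩

theorem ol_spec {i : ℕ} (hi : i < 891) : (∀ s ∈ G7, inO (ac (MT s) (ol i)) = true) ∧ ol i < 2 ^ 20 ∧
    (524288 ≤ ol i → ac (JN (ol i / 1024 - 512)) 524288 ^^^ 524288 = ol i) ∧
    (ol i < 1024 → ol i = 1 ∨ ol i / 2 ∈ CS) ∧
    (1024 ≤ ol i → ol i < 524288 → ¬ inO (ol i ^^^ 1) = true ∧ ol i / 1024 ∈ CS) := by
  have h := allLt_iff.1 (an_iff.1 chk_O).1 i hi
  simp only [force_eq, an_iff, imp_iff, lall_iff, blt_iff, ble_iff, beq_iff] at h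
  refine ⟨h.1, h.2.1, h.2.2.1, fun e => ?_, fun e e' => ?_⟩
  · have := h.2.2.2 (by omega)
    rwa [blt_iff.2 e, cond_true, ou_iff, beq_iff, lmem_iff] at this
  · have := h.2.2.2 e'
    rwa [show Nat.blt (ol i) 1024 = false from Bool.eq_false_iff.2 fun k => by
      rw [blt_iff] at k; omega, cond_false, an_iff, no_iff, lmem_iff] at this

/-- the group with its module -/
structure MD (E : Set X) (t : ℕ → X) (ϱ : X →* (V ≃ₗ[ZMod 2] V)) : Prop extends UX E t where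
  cd : ∀ s < 693, Cd ϱ (t s) (MT s)
  inj : Function.Injective ϱ

/-- the orbit of planes -/
def Ob (ϱ : X →* (V ≃ₗ[ZMod 2] V)) (v : V) : Prop := ∃ g, v = ϱ g (vd 1)

theorem Ob.map {v : V} (h : Ob ϱ v) (g : X) : Ob ϱ (ϱ g v) := by
  obtain ⟨k, rfl⟩ := h
  exact ⟨g * k, (σ_mul ..).symm⟩

theorem σ_inv (g : X) (v : V) : ϱ g⁻¹ (ϱ g v) = v := by rw [← σ_mul, inv_mul_cancel, σ_one]

theorem σ_inv' (g : X) (v : V) : ϱ g (ϱ g⁻¹ v) = v := by rw [← σ_mul, mul_inv_cancel, σ_one]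

namespace UX

variable (U : UX E t)
include U

theorem hc : ∀ z ∈ (⊥ : Subgroup X), ∀ x ∈ E, Commute z x := fun z hz x _ => by
  rw [Subgroup.mem_bot.1 hz]; exact Commute.one_left x

theorem h0 : wd t ln0 ∈ (⊥ : Subgroup X) := U.cen _ (central_ln0 U.R)
theorem h1 : J t HM1 ∈ (⊥ : Subgroup X) := U.cen _ (central_H1 U.R)
theorem h2 : J t HM2 ∈ (⊥ : Subgroup X) := U.cen _ (central_H2 U.R)

theorem exists_J {a : X} (ha : a ∈ BG t) : ∃ m < 512, a = J t m := by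
  obtain ⟨m, hm, z, hz, rfl⟩ := FiRec.exists_J U.R U.hc U.h0 U.h1 U.h2 (Subgroup.mem_sup_left ha)
  exact ⟨m, hm, by rw [Subgroup.mem_bot.1 hz, mul_one]⟩

theorem coset {x : X} (hx : x ∈ KG t ⊥) : ∃ j < 64, ∃ a ∈ BG t, x = wd t (sel gs j) * a := by
  simpa using exists_coset U.R U.hc (fun a _ h => U.cen a h) hx

theorem syl : MSS.SylIn 2 (KG t ⊥) ⊤ := by
  have := U.finite
  have : Fact (Nat.Prime 2) := ⟨Nat.prime_two⟩
  have ho := odd_relIndex U.R (H := ⊤) (Set.subset_univ _) le_top U.hc U.h0 U.h1 U.h2 (by simp [U.card])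
  exact MSS.sylIn_of_not_dvd_relIndex (IsPGroup.of_card (n := 15) (by
    simpa using card_KG U.R U.hc U.h0 U.h1 U.h2)) le_top
    fun h => (Nat.not_even_iff_odd.2 ho) (even_iff_two_dvd.2 h)

theorem comm_BG {a : X} (ha : a ∈ BG t) {p : ℕ} (hp : p ∈ ps) : Commute a (t p) :=
  (ea_BG U.R).commute ha (mem_BG t hp)

theorem mem_invL {j : ℕ} (hj : j < 64) {a : X} (ha : a ∈ BG t)
    (h : wd t (sel gs j) * a * (wd t (sel gs j) * a) = 1) : j ∈ invL := by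
  refine lmem_iff.1 ((ou_iff.1 (allLt_iff.1 chk_invL j hj)).resolve_right fun k => ?_)
  obtain ⟨p, hp, k⟩ := lany_iff.1 k
  have hw := okW_sel (goodOK_ok chk_good) j
  have m := lmem_iff.1 (lall_iff.1 (allLt_iff.1 chk_gs.2.2.1 j hj) p hp)
  have e : ∀ p ∈ ps, wd t (sel gs j) * a * t p * (wd t (sel gs j) * a)⁻¹ = t (act op (sel gs j) p) :=
    fun p hp => by rw [(U.R.act_spec hw (ps_lt hp)).2, ← cj_cj, cj_eq_of_commute (U.comm_BG ha hp)]
  refine no_iff.1 k (beq_iff.2 (U.R.inj (act_append op _ _ p ▸ (U.R.act_spec hw (ps_lt m)).1) (ps_lt hp) ?_))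
  rw [act_append, ← e _ m, ← e _ hp, cj_cj, h]; simp

theorem exists_not_mem {B : Subgroup X} (hK : B ≤ KG t ⊥) (hB : EA B) (hc : 256 ≤ Nat.card B) (l : List ℕ)
    (hl : l.length ≤ 9) : ∃ k < 512, J t k ∈ B ∧ k ∉ l := by
  have := U.finite
  by_contra h
  push Not at h
  have h1 := card_le_mul (F := B) (A := BG t) (T := invL) (r := fun j => wd t (sel gs j)) fun x hx => by
    obtain ⟨j, hj, a, ha, rfl⟩ := U.coset (hK hx)
    exact ⟨j, U.mem_invL hj ha (hB _ hx), a, ha, rfl⟩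
  have h2 : ((B : Set X) ∩ BG t).ncard ≤ (J t '' l.toFinset).ncard := Set.ncard_le_ncard fun a ha => by
    obtain ⟨m, hm, rfl⟩ := U.exists_J ha.2
    exact ⟨m, by simpa using h m hm ha.1, rfl⟩
  have h3 := (Set.ncard_image_le (f := J t) (s := l.toFinset)).trans
    ((Set.ncard_coe_finset _).le.trans l.toFinset_card_le)
  rw [show invL.length = 28 from rfl] at h1
  omega

theorem ind {P : X → Prop} (h1 : P 1) (h2 : ∀ a b, P a → P b → P (a * b)) (h3 : ∀ s ∈ G7, P (t s)) (g : X) :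
    P g := by
  have k : ∀ s < 693, P (t s) := fun s hs => (covers_spec chk_MT.2 (Q := fun c => c < 693 ∧ P (t c))
    ⟨by decide, h3 0 (by decide)⟩ (by
      rintro w hw c ⟨a, b⟩
      obtain ⟨s, hs, rfl⟩ := List.mem_map.1 hw
      have hs' : s < 693 := (by decide : ∀ s ∈ G7, s < 693) s hs
      rw [act_cons, act_nil, U.R.hop s hs' c a]
      exact ⟨U.R.lt s hs' c a, h2 _ _ (h2 _ _ (h3 s hs) b) (h3 s hs)⟩) s hs rfl).2
  refine Subgroup.closure_induction'' (fun x hx => ?_) (fun x hx => ?_) h1 (fun a b _ _ => h2 a b) (U.mem g)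
  · obtain ⟨s, hs, rfl⟩ := U.R.surj hx
    exact k s hs
  · rw [U.R.fs.inv hx]
    obtain ⟨s, hs, rfl⟩ := U.R.surj hx
    exact k s hs

end UX

namespace MD

variable (h : MD E t ϱ)
include h

theorem wa {w : List ℕ} (hw : okW w = true) (c : ℕ) : ϱ (wd t w) (vd c) = vd (wa MT w c) := by
  rw [cd_wm fun s hs => h.cd s (okW_iff.1 hw s hs), M_wm]

theorem ac1 {s : ℕ} (hs : s < 693) (c : ℕ) : ϱ (t s) (vd c) = vd (ac (MT s) c) := by rw [h.cd s hs, M_vd]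

theorem JN_eq {k : ℕ} (hk : k < 512) (v : V) : ϱ (J t k) v + v = M (JN k) v := by
  have c := allLt_iff.1 chk_J k hk
  rw [force_eq, an_iff, beq_iff] at c
  rw [J_eq_wd, cd_wm fun s hs => h.cd s (okW_sel okW_sing k s hs), ← c.1, M_xor, M_one, v2_add_add_cancel']

omit h in
theorem JN_spec {k : ℕ} (hk : k < 512) : M (JN k) (vd 1) = 0 ∧ (∀ v ∈ F 10, M (JN k) v ∈ F 1) ∧
    (∀ v ∈ F 19, M (JN k) v ∈ F 10) ∧ M (JN k) (vd 524288) + vd (k * 1024) ∈ F 10 := by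
  have c := allLt_iff.1 chk_J k hk
  simp only [force_eq, an_iff, beq_iff] at c
  refine ⟨by rw [M_vd, c.2.1, vd_zero], fun v => M_mem c.2.2.1, fun v => M_mem c.2.2.2.1, ?_⟩
  rw [M_vd, add_mem_F (ac_lt _ _) (by omega) (by decide)]
  exact c.2.2.2.2.trans (by omega)

theorem inO_of {c : ℕ} (hc : c < 2 ^ 20) (o : Ob ϱ (vd c)) : ∃ i < 891, ol i = c := by
  obtain ⟨g, e⟩ := o
  obtain ⟨i, hi, k⟩ := h.ind (P := fun g => ∀ i < 891, ∃ j < 891, ϱ g (vd (ol i)) = vd (ol j))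
    (fun i hi => ⟨i, hi, σ_one ..⟩) (fun a b ha hb i hi => by
      obtain ⟨j, hj, e⟩ := hb i hi
      rw [σ_mul, e]; exact ha j hj) (fun s hs i hi => by
      obtain ⟨j, hj, e⟩ := inO_iff ((ol_spec hi).1 s hs)
      exact ⟨j, hj, by rw [h.ac1 ((by decide : ∀ s ∈ G7, s < 693) s hs), e]⟩) g 0 (by decide)
  rw [chk_par.1, ← e] at k
  exact ⟨i, hi, vd_inj (ol_spec hi).2.1 hc k.symm⟩

theorem ob_ol {i : ℕ} (hi : i < 891) : Ob ϱ (vd (ol i)) := by
  induction' e : fld 20 1048575 PT i / 8192 using Nat.strong_induction_on with n ih generalizing i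
  rcases ou_iff.1 (allLt_iff.1 chk_par.2.2 i hi) with c | c
  · rw [beq_iff.1 c, chk_par.1]; exact ⟨1, (σ_one ..).symm⟩
  simp only [force_eq, an_iff, blt_iff, beq_iff] at c
  rw [← c.2.2.2, ← h.ac1 ((by decide : ∀ k < 7, G7.getD k 0 < 693) _ c.2.1)]
  exact (ih _ (e ▸ c.2.2.1) c.1 rfl).map _

theorem ob_CS {c : ℕ} (hc : c / 2 ∈ CS) : Ob ϱ (vd c) := by
  have := an_iff.1 (lall_iff.1 (an_iff.1 chk_O).2 _ hc)
  obtain ⟨i, hi, e⟩ := inO_iff this.1
  obtain ⟨j, hj, e'⟩ := inO_iff this.2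
  rcases (by omega : c = ol i ∨ c = ol j) with k | k <;> rw [k]
  exacts [h.ob_ol hi, h.ob_ol hj]

theorem fix_KG {g : X} (hg : g ∈ KG t ⊥) : ϱ g (vd 1) = vd 1 ∧ Commute g (t 0) := by
  let S : Subgroup X := (MulAction.stabilizer _ (vd 1)).comap ϱ ⊓ Subgroup.centralizer {t 0}
  have : KG t ⊥ ≤ S := by
    refine sup_le (sup_le ((Subgroup.closure_le _).2 fun a ha => ?_) bot_le)
      ((Subgroup.closure_le _).2 fun a ha => ?_) <;> obtain ⟨p, hp, rfl⟩ := List.mem_map.1 ha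
    · exact ⟨(h.ac1 (ps_lt hp) 1).trans (congrArg vd (beq_iff.1 (lall_iff.1 chk_gs.2.1 p hp))),
        Subgroup.mem_centralizer_singleton_iff.2 (h.comm_BG (mem_BG t hp) (by decide))⟩
    · have c := an_iff.1 (lall_iff.1 chk_gs.1 p hp)
      have hw := goodOK_ok chk_good p hp
      exact ⟨(h.wa (okW_iff.2 hw) 1).trans (congrArg vd (beq_iff.1 c.1)),
        Subgroup.mem_centralizer_singleton_iff.2 ((commute_wd_iff h.R hw (by decide)).2 (beq_iff.1 c.2))⟩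
  exact ⟨(this hg).1, Subgroup.mem_centralizer_singleton_iff.1 (this hg).2⟩

theorem move {p : ℕ} (hp : p ∈ ps) : ∃ g, ϱ g (vd 1) = vd 1 ∧ g * t 0 * g⁻¹ = t p :=
  (covers_spec chk_gs.2.2.2.2.1 (Q := fun c => c < 693 ∧ ∃ g, ϱ g (vd 1) = vd 1 ∧ g * t 0 * g⁻¹ = t c)
    ⟨by decide, 1, σ_one .., by simp⟩ (by
      rintro w hw c ⟨a, g, g1, g2⟩
      have k := an_iff.1 (lall_iff.1 chk_gs.2.2.2.1 w hw)
      obtain ⟨b1, b2⟩ := h.R.act_spec (okW_iff.1 k.1) a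
      exact ⟨b1, wd t w * g, by rw [σ_mul, g1, h.wa k.1, beq_iff.1 k.2], by rw [b2, ← g2, cj_cj]⟩)
    p (ps_lt hp) (lmem_iff.2 hp)).2

/-- a large elementary abelian subgroup normalised by the stabiliser of the plane -/
theorem eq_BG {B : Subgroup X} (hB : EA B) (hc : 256 ≤ Nat.card B)
    (hn : ∀ g, ϱ g (vd 1) = vd 1 → ∀ b ∈ B, g * b * g⁻¹ ∈ B) : B = BG t := by
  have := h.finite
  have h1 : B ≤ KG t ⊥ := le_sup_left.trans (h.syl.max _ (IsPGroup.to_sup_of_normal_left' hB.isPGroup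
    h.syl.pgroup fun g hg => mem_normalizer_of_forall (hn g (h.fix_KG hg).1)) le_sup_right le_top).le
  have h2 : B ≤ BG t := fun b hb => by
    obtain ⟨j, hj, a, ha, rfl⟩ := h.coset (h1 hb)
    rw [← coset_inj h.R (i := 0) (by decide) hj fun p hp => ?_]
    · exact mul_mem (one_mem _) ha
    obtain ⟨g, g1, g2⟩ := h.move hp
    have := (h.fix_KG (h1 (hn g⁻¹ (by rw [← g1, σ_inv, g1]) _ hb))).2.map (MulAut.conj g)
    simp only [MulAut.conj_apply, g2, inv_inv, mul_assoc, mul_inv_cancel_left, mul_inv_cancel, mul_one] at this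
    simpa [show wd t (sel gs 0) = 1 from rfl] using this.mul_left (h.comm_BG ha hp).inv_left
  obtain ⟨p, hp, m⟩ : ∃ p ∈ ps, t p ∈ B := by
    by_contra k
    push Not at k
    have c := (B.subgroupOf (BG t)).index_mul_card
    rw [Nat.card_congr (Subgroup.subgroupOfEquivOfLe h2).toEquiv, show Nat.card (BG t) = 512 by
      simpa using card_BG h.R h.hc h.h0 h.h1 h.h2] at c
    have i1 : (B.subgroupOf (BG t)).index ≠ 1 := fun e =>
      k 0 (by decide) ((Subgroup.index_eq_one.1 e).ge (Subgroup.mem_top ⟨_, mem_BG t (by decide)⟩))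
    have i2 : (B.subgroupOf (BG t)).index = 2 := by
      have : (B.subgroupOf (BG t)).index ≠ 0 := fun e => by simp [e] at c
      have : (B.subgroupOf (BG t)).index < 3 := by nlinarith
      omega
    have m : ∀ a ∈ ps, ∀ b ∈ ps, t a * t b ∈ B := fun a ha b hb =>
      (Subgroup.mul_mem_iff_of_index_two i2 (a := ⟨_, mem_BG t ha⟩) (b := ⟨_, mem_BG t hb⟩)).2
        (iff_of_false (k a ha) (k b hb))
    have e : t 0 * t 5 * (t 6 * t 93) * t 96 = 1 := by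
      simpa [wd, ln0, mul_assoc] using Subgroup.mem_bot.1 h.h0
    exact k 96 (by decide) ((mul_mem_cancel_left (mul_mem (m 0 (by decide) 5 (by decide))
      (m 6 (by decide) 93 (by decide)))).1 (e ▸ one_mem _))
  refine le_antisymm h2 ((Subgroup.closure_le _).2 fun a ha => ?_)
  obtain ⟨r, hr, rfl⟩ := List.mem_map.1 ha
  obtain ⟨g, g1, g2⟩ := h.move hp
  obtain ⟨k, k1, k2⟩ := h.move hr
  have := hn (k * g⁻¹) (by rw [σ_mul, ← g1, σ_inv, g1, k1]) _ m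
  rw [← g2, cj_cj, inv_mul_cancel_right, k2] at this
  exact this

variable {q : QuadraticForm (ZMod 2) V} (hq : ∀ g v, q (ϱ g v) = q v)
  (nd : ∀ v, (∀ w, polar q v w = 0) → v = 0)
include hq

theorem adj {k : ℕ} (hk : k < 512) (u v : V) : polar q (M (JN k) u) v = polar q u (M (JN k) v) := by
  rw [← h.JN_eq hk, ← h.JN_eq hk, polar_add_left, polar_add_right,
    ← polar_isometry q (map_add (ϱ (J t k))) (hq _) _ v, ← σ_mul, ea_BG h.R _ (J_mem t k), σ_one]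

include nd

theorem pol0 (v : V) : polar q (vd 1) v = 0 ↔ v ∈ F 19 := by
  have h1 : F 19 ≤ LinearMap.ker (polarBilin q (vd 1)) := F_le fun j hj => by
    have c := allLt_iff.1 chk_CS.2.2.1 j hj
    simp only [an_iff, blt_iff, beq_iff] at c
    change polar q _ _ = 0
    rw [← c.2.1, ← M_vd, ← h.adj hq c.1, (JN_spec c.1).1, polar_zero_left]
  refine ⟨fun e => ?_, fun e => h1 e⟩
  obtain ⟨c, hc, rfl⟩ := exists_vd v
  by_contra k
  have k1 : c / 2 ^ 19 = 1 := by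
    have : ¬ c < 2 ^ 19 := fun e => k (vd_mem e)
    omega
  rw [vd_split c 19, k1, one_mul, polar_add_right, show polar q _ (vd (c % 2 ^ 19)) = 0 from
    h1 (vd_mem (Nat.mod_lt _ (by norm_num))), add_zero] at e
  refine vd_ne (c := 1) (by decide) one_ne_zero (nd _ fun w =>
    F_le (S := LinearMap.ker (polarBilin q (vd 1))) (fun j hj => ?_) (mem_F20 w))
  rcases (by omega : j < 19 ∨ j = 19) with a | rfl
  exacts [h1 (vd_mem (Nat.pow_lt_pow_right one_lt_two a)), e]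

theorem cross {a b : ℕ} (ha : a < 512) (hb : b < 512) (hy : yN (JN a) b ≠ 0) {c : ℕ} (hc : c < 2 ^ 20)
    (hN : ∀ w, polar q (vd c) w = 0 → M (JN a) (M (JN b) w) = 0 ∨ M (JN a) (M (JN b) w) = vd c) :
    c = 1 ∨ c / 2 = yN (JN a) b := by
  obtain ⟨y, y1, y2⟩ := exists_vd (M (JN a) (M (JN b) (vd 524288)))
  have y3 : y / 2 = yN (JN a) b := by
    have := (JN_spec ha).2.1 _ (JN_spec hb).2.2.2
    rwa [map_add, y2, M_vd, add_mem_F y1 (ac_lt _ _) (by decide)] at this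
  obtain ⟨w, w1, w2⟩ : ∃ w ∈ F 19, M (JN a) (M (JN b) w) = vd 1 := by
    by_contra k
    push Not at k
    have cm : ∀ w, M (JN b) (M (JN a) w) = M (JN a) (M (JN b) w) := fun w => by
      simp only [← h.JN_eq ha, ← h.JN_eq hb, map_add, ← σ_mul,
        ((ea_BG h.R).commute (J_mem t a) (J_mem t b)).eq]
      abel
    rcases perp_perp_one nd (a := vd 1) (t := vd y) fun w hw => by
      have m := (h.pol0 hq nd w).1 hw
      rw [← y2, h.adj hq ha, h.adj hq hb, cm, (mem_F1 ((JN_spec ha).2.1 _ ((JN_spec hb).2.2.1 w m))).resolve_right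
        (k w m), polar_zero_right] with e | e
    · rw [vd_inj y1 (by decide) (e.trans vd_zero.symm)] at y3; exact hy y3.symm
    · rw [vd_inj y1 (by decide) e] at y3; exact hy y3.symm
  by_cases e1 : polar q (vd c) w = 0
  · exact Or.inl (vd_inj hc (by decide) (((hN w e1).resolve_left
      (w2 ▸ vd_ne (by decide) one_ne_zero)).symm.trans w2))
  by_cases e2 : polar q (vd c) (vd 524288) = 0
  · rw [← vd_inj y1 hc (y2 ▸ (hN _ e2).resolve_left (y2 ▸ vd_ne y1 (by omega)))]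
    exact Or.inr y3
  have := hN _ (NL.perp_add e1 e2)
  rw [map_add, map_add, w2, y2, ← vd_xor] at this
  have y4 : (1 ^^^ y) / 2 = y / 2 := by simpa using Nat.xor_div_two_pow (a := 1) (b := y) (n := 1)
  have y5 := Nat.xor_lt_two_pow (by decide : 1 < 2 ^ 20) y1
  rw [← vd_inj y5 hc (this.resolve_left (vd_ne y5 (by omega)))]
  exact Or.inr (y4.trans y3)

/-- the singular vector is a plane -/
theorem ob_of {B : Subgroup X} (hB : EA B) (hc : 256 ≤ Nat.card B) {x : V}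
    (hN : ∀ a ∈ B, ∀ b ∈ B, ∀ w, polar q x w = 0 →
      ϱ a (ϱ b w + w) + (ϱ b w + w) = 0 ∨ ϱ a (ϱ b w + w) + (ϱ b w + w) = x) : Ob ϱ x := by
  have := h.finite
  have : Fact (Nat.Prime 2) := ⟨Nat.prime_two⟩
  obtain ⟨g, -, hg⟩ := h.syl.exists_conj_le hB.isPGroup le_top
  obtain ⟨c, hc', e⟩ := exists_vd (ϱ g x)
  rw [← σ_inv (ϱ := ϱ) g x, e]
  refine Ob.map (by_contra fun ho => ?_) _
  have hK := h.exists_not_mem hg (hB.conj g) (hc.trans_eq (MSS.card_cj g B).symm)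
  have k : ∀ a < 512, ∀ b < 512, J t a ∈ g •ᶜ B → J t b ∈ g •ᶜ B →
      yN (JN a) b = 0 ∨ yN (JN a) b = c / 2 ∧ c / 2 ∉ CS := fun a ha b hb ⟨a', a1, a2⟩ ⟨b', b1, b2⟩ => by
    refine or_iff_not_imp_left.2 fun hy => ⟨((h.cross hq nd ha hb hy hc' fun w hw => ?_).resolve_left
      fun k => ho (k ▸ ⟨1, (σ_one ..).symm⟩)).symm, fun k => ho (h.ob_CS k)⟩
    have := hN a' a1 b' b1 (ϱ g⁻¹ w) (by
      rw [← polar_isometry q (map_add (ϱ g)) (hq _), e, σ_inv', hw])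
    rw [← h.JN_eq ha, ← h.JN_eq hb, ← a2, ← b2, ← e]
    refine this.imp (fun k => ?_) fun k => ?_ <;> replace k := congrArg (ϱ g) k <;>
      simpa [σ_mul, σ_inv, σ_inv'] using k
  have mx : ∀ {a b}, J t a ∈ g •ᶜ B → J t b ∈ g •ᶜ B → J t (a ^^^ b) ∈ g •ᶜ B := fun ha hb =>
    J_xor h.R _ _ ▸ mul_mem ha hb
  have lx : ∀ {a b}, a < 512 → b < 512 → a ^^^ b < 512 := Nat.xor_lt_two_pow (n := 9)
  obtain ⟨a, a1, a2, a3, a4⟩ : ∃ a < 512, J t a ∈ g •ᶜ B ∧ a ≠ 0 ∧ a ∉ CS := by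
    obtain ⟨a, a1, a2, a3⟩ := hK [0] (by decide)
    obtain ⟨b, b1, b2, b3⟩ := hK [0, a] (by simp)
    simp only [List.mem_cons, List.not_mem_nil, or_false, not_or] at a3 b3
    by_cases ha : a ∈ CS
    · by_cases hb : b ∈ CS
      · exact ⟨_, lx a1 b1, mx a2 b2, fun e => b3.2 (Nat.xor_eq_zero_iff.1 e).symm, fun e => by
          simpa [ou_iff, no_iff, lmem_iff, e, Ne.symm b3.2] using lall_iff.1 (lall_iff.1 chk_CS.1 a ha) b hb⟩
      · exact ⟨b, b1, b2, b3.1, hb⟩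
    · exact ⟨a, a1, a2, a3, ha⟩
  obtain ⟨d, d1, d2, d3⟩ : ∃ d < 512, J t d ∈ g •ᶜ B ∧ ∀ b < 512, J t b ∈ g •ᶜ B →
      yN (JN a) b = 0 ∨ yN (JN a) (b ^^^ d) = 0 := by
    by_cases hd : ∃ d < 512, J t d ∈ g •ᶜ B ∧ yN (JN a) d ≠ 0
    · obtain ⟨d, d1, d2, d3⟩ := hd
      exact ⟨d, d1, d2, fun b b1 b2 => (k a a1 b b1 a2 b2).imp_right fun e => by
        rw [yN_xor, e.1, ((k a a1 d d1 a2 d2).resolve_left d3).1, Nat.xor_self]⟩
    · push Not at hd
      exact ⟨a, a1, a2, fun b b1 b2 => Or.inl (hd b b1 b2)⟩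
  have ex : ∀ l : List ℕ, l.length ≤ 4 → ∃ b < 512, J t b ∈ g •ᶜ B ∧ yN (JN a) b = 0 ∧ b ∉ l := fun l hl => by
    obtain ⟨b, b1, b2, b3⟩ := hK (l ++ l.map (· ^^^ d)) (by simp; omega)
    rw [List.mem_append, not_or] at b3
    rcases d3 b b1 b2 with e | e
    exacts [⟨b, b1, b2, e, b3.1⟩, ⟨_, lx b1 d1, mx b2 d2, e, fun m =>
      b3.2 (List.mem_map.2 ⟨_, m, Nat.xor_xor_cancel_right b d⟩)⟩]
  obtain ⟨b, b1, b2, b3, b4⟩ := ex [0, a] (by simp)
  obtain ⟨r, r1, r2, r3, r4⟩ := ex [0, a, b, a ^^^ b] (by simp)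
  have s := star a1 b1 r1 a3 a4 b3 r3 b4 r4
  rcases k b b1 r r1 b2 r2 with e | e
  exacts [chk_CS.2.1 (e ▸ s), e.2 (e.1 ▸ s)]

end MD

end CL.E6U
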