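import Cfsg.Agent.CHEV.CT
import Cfsg.Agent.TECH.Conj

/-!
A Curtis–Tits argument for abstract root subgroups.
-/

set_option autoImplicit false
set_option linter.unusedSectionVars false

namespace CL.E6U

open CL.Chev CL.Cox CL.MSS
open scoped commutatorElement

/-- root subgroups for the standard subsystems of rank two -/
structure RG2 {ι κ : Type*} [Fintype κ] [DecidableEq κ] (R : RootSys ι κ) (G : Type*) [Group G] where
  Y : ι → Subgroup G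
  n : κ → G
  H : Subgroup G
  cox : ∀ i j, (n i * n j) ^ orderOf (R.sp i * R.sp j) = 1
  nH : ∀ i, ∀ h ∈ H, n i * h * (n i)⁻¹ ∈ H
  HY : ∀ h ∈ H, ∀ i, ∀ y ∈ Y (R.simple i), h * y * h⁻¹ ∈ Y (R.simple i)
  nY : ∀ i j, ∀ r ∈ R.sub {i, j}, ∀ y ∈ Y r, n i * y * (n i)⁻¹ ∈ Y (R.σ i r)
  cm : ∀ i j, ∀ r ∈ R.sub {i, j}, ∀ s ∈ R.sub {i, j}, s ≠ r → s ≠ R.neg r → ∀ y ∈ Y r, ∀ y' ∈ Y s,
    ⁅y, y'⁆ ∈ ⨆ (k : ι) (_ : R.IsComb r s k), Y k
  r1 : ∀ i, ∀ y ∈ Y (R.neg (R.simple i)), y = 1 ∨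
    ∃ a ∈ Y (R.simple i), ∃ h ∈ H, ∃ b ∈ Y (R.simple i), y = a * h * n i * b

namespace RG2

variable {ι κ : Type*} [Fintype κ] [DecidableEq κ] {R : RootSys ι κ} {G G' : Type*} [Group G] [Group G']
  (C : RG2 R G) {l l' : List κ} {i j : κ} {r s : ι} {g y : G}

/-- words in the `n i` -/
def nw (l : List κ) : G := (l.map C.n).prod

local notation "W[" l "]" => List.prod (List.map R.sp l)

theorem cj_aux (a b c : G) : a * (b * c * b⁻¹) * a⁻¹ = a * b * c * (a * b)⁻¹ := by group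

theorem nw_cons : C.nw (i :: l) = C.n i * C.nw l := rfl

theorem nw_append : C.nw (l ++ l') = C.nw l * C.nw l' := by simp [nw]

theorem n_sq (i : κ) : C.n i * C.n i = 1 := by simpa [R.sp_mul_self] using C.cox i i

theorem nw_congr (h : W[l] = W[l']) : C.nw l = C.nw l' :=
  R.exch_sW.wp_eq_of_wp_eq C.n C.n_sq (fun i j => by rw [R.orderOf_sW_mul_sW, C.cox]) (a := l) (b := l')
    (Subtype.ext (by rw [R.wp_sW_val, R.wp_sW_val, h]))

theorem W_rev (l : List κ) : W[l.reverse] = W[l]⁻¹ := by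
  induction l with
  | nil => simp
  | cons i l ih => rw [List.reverse_cons, List.map_append, List.prod_append, ih]; simp [R.sp_inv]

theorem nw_rev (l : List κ) : C.nw l.reverse = (C.nw l)⁻¹ := eq_inv_of_mul_eq_one_left
  (C.nw_append.symm.trans (C.nw_congr (l' := []) (by rw [List.map_append, List.prod_append, W_rev]; simp)))

theorem nw_H (l : List κ) (h : g ∈ C.H) : C.nw l * g * (C.nw l)⁻¹ ∈ C.H := by
  induction l with
  | nil => simpa [nw] using h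
  | cons i l ih => convert C.nH i _ ih using 1; rw [nw_cons]; group

theorem conj_two (hl : ∀ k ∈ l, k ∈ ({i, j} : Set κ)) (hr : r ∈ R.sub {i, j}) (hy : y ∈ C.Y r) :
    C.nw l * y * (C.nw l)⁻¹ ∈ C.Y (W[l] r) := by
  induction l with
  | nil => simpa [nw] using hy
  | cons k l ih =>
    have h1 := fun a ha => hl a (List.mem_cons_of_mem _ ha)
    have h2 := (RootSys.WJ_mem_sub (R.mem_WJ_iff.2 ⟨l, h1, rfl⟩)).2 hr
    have : C.n k * (C.nw l * y * (C.nw l)⁻¹) * (C.n k)⁻¹ ∈ C.Y (R.σ k (W[l] r)) := by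
      rcases hl k List.mem_cons_self with rfl | rfl
      exacts [C.nY _ j _ h2 _ (ih h1), C.nY _ i _ (Set.pair_comm i _ ▸ h2) _ (ih h1)]
    rw [show C.nw (k :: l) * y * (C.nw (k :: l))⁻¹ = _ by rw [nw_cons, ← cj_aux]]
    exact this

variable [Finite ι]

theorem conj_simple (h : W[l] (R.simple i) = R.simple j) (hy : y ∈ C.Y (R.simple i)) :
    C.nw l * y * (C.nw l)⁻¹ ∈ C.Y (R.simple j) := by
  induction hn : R.ell W[l] using Nat.strong_induction_on generalizing l i y with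
  | _ n ih =>
  by_cases h1 : W[l] = 1
  · rw [h1] at h
    obtain rfl : i = j := R.simple_injective h
    rw [C.nw_congr (l' := []) h1]
    simpa [nw] using hy
  obtain ⟨k, m, v, hv, w', hw', e1, e2, e3, hlt⟩ := RootSys.exists_factor (R.mem_W_iff.2 ⟨l, rfl⟩) h1 h
  obtain ⟨l2, hl2, rfl⟩ := R.mem_WJ_iff.1 hv
  obtain ⟨l1, rfl⟩ := R.mem_W_iff.1 hw'
  convert ih _ (hn ▸ hlt) e3 (e2 ▸ C.conj_two hl2 (R.simple_mem_sub.2 (by simp)) hy) rfl using 1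
  rw [C.nw_congr (l' := l1 ++ l2) (by simpa using e1), nw_append]; group

/-- the root subgroups -/
def Z (r : ι) : Subgroup G := ⨅ (l : List κ) (i : κ) (_ : W[l] (R.simple i) = r), C.nw l •ᶜ C.Y (R.simple i)

theorem mem_Z (h : W[l] (R.simple i) = r) : g ∈ C.Z r ↔ (C.nw l)⁻¹ * g * C.nw l ∈ C.Y (R.simple i) := by
  simp only [Z, Subgroup.mem_iInf, mem_cj]
  refine ⟨fun k => k l i h, fun k l' j e => ?_⟩
  convert C.conj_simple (l := l'.reverse ++ l) (j := j) (by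
    rw [List.map_append, List.prod_append, W_rev, Equiv.Perm.mul_apply, h, ← e]; simp) k using 1
  rw [nw_append, nw_rev]; group

theorem ex_word (r : ι) : ∃ l i, W[l] (R.simple i) = r := by
  obtain ⟨w, hw, i, rfl⟩ := R.exists_W_simple r
  obtain ⟨l, rfl⟩ := R.mem_W_iff.1 hw
  exact ⟨l, i, rfl⟩

theorem Z_nw (l : List κ) (h : g ∈ C.Z r) : C.nw l * g * (C.nw l)⁻¹ ∈ C.Z (W[l] r) := by
  obtain ⟨l', i, e⟩ := ex_word (R := R) r
  rw [C.mem_Z (l := l ++ l') (i := i) (by simp [e])]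
  convert (C.mem_Z e).1 h using 1
  rw [nw_append]; group

theorem Z_nw' (l : List κ) (h : g ∈ C.Z r) : (C.nw l)⁻¹ * g * C.nw l ∈ C.Z (W[l]⁻¹ r) := by
  have := C.Z_nw l.reverse h
  rwa [nw_rev, W_rev, inv_inv] at this

theorem Z_H {h : G} (hh : h ∈ C.H) (hg : g ∈ C.Z r) : h * g * h⁻¹ ∈ C.Z r := by
  obtain ⟨l, i, e⟩ := ex_word (R := R) r
  rw [C.mem_Z e] at hg ⊢
  convert C.HY _ (C.nw_H l.reverse hh) i _ hg using 1
  rw [nw_rev]; group

theorem Z_eq (hr : r ∈ R.sub {i, j}) : C.Z r = C.Y r := by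
  obtain ⟨w, hw, m, hm, rfl⟩ := R.exists_WJ_simple hr
  obtain ⟨l, hl, rfl⟩ := R.mem_WJ_iff.1 hw
  ext g
  rw [C.mem_Z rfl]
  exact ⟨fun h => by simpa [mul_assoc] using C.conj_two hl (R.simple_mem_sub.2 hm) h, fun h => by
    have := C.conj_two (l := l.reverse) (fun k hk => hl k (List.mem_reverse.1 hk)) hr h
    rwa [nw_rev, W_rev, inv_inv, ← Equiv.Perm.mul_apply, inv_mul_cancel] at this⟩

theorem Z_simple (i : κ) : C.Z (R.simple i) = C.Y (R.simple i) := C.Z_eq (i := i) (j := i) (R.simple_mem_sub.2 (by simp))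

theorem Z_cm (h1 : s ≠ r) (h2 : s ≠ R.neg r) (hg : g ∈ C.Z r) (hy : y ∈ C.Z s) {K : Subgroup G}
    (hK : ∀ k, R.IsComb r s k → C.Z k ≤ K) : ⁅g, y⁆ ∈ K := by
  obtain ⟨w, hw, i, j, hr, hs⟩ := R.exists_W_sub_pair r s
  obtain ⟨l, rfl⟩ := R.mem_W_iff.1 hw
  have k := C.cm i j _ hr _ hs (fun e => h1 (W[l].injective e))
    (fun e => h2 (W[l].injective (e.trans (RootSys.W_neg hw r).symm))) _ (C.Z_eq hr ▸ C.Z_nw l hg) _
    (C.Z_eq hs ▸ C.Z_nw l hy)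
  have := (iSup₂_le fun k hk a ha => mem_cj.2 (hK _ (by simpa using hk.W (inv_mem hw))
    (C.Z_nw' l (C.Z_eq (R.closed_sub _ _ hr _ hs k hk) ▸ ha))) : _ ≤ C.nw l •ᶜ K) k
  convert mem_cj.1 this using 1
  simp only [commutatorElement_def]; group

/-- the Borel subgroup -/
def B : Subgroup G := C.H ⊔ ⨆ (r : ι) (_ : R.IsPos r), C.Z r

theorem Z_le (h : R.IsPos r) : C.Z r ≤ C.B :=
  le_sup_of_le_right (le_iSup₂_of_le (f := fun r (_ : R.IsPos r) => C.Z r) r h le_rfl)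

theorem B_dec (i : κ) (h : g ∈ C.B) : ∃ a, C.n i * a * (C.n i)⁻¹ ∈ C.B ∧ ∃ y ∈ C.Z (R.simple i), g = a * y := by
  let U : Subgroup G := ⨆ (r : ι) (_ : R.IsPos r ∧ r ≠ R.simple i), C.Z r
  have hU : ∀ r, R.IsPos r → r ≠ R.simple i → C.Z r ≤ U := fun r h1 h2 =>
    le_iSup₂_of_le (f := fun r (_ : R.IsPos r ∧ r ≠ R.simple i) => C.Z r) r ⟨h1, h2⟩ le_rfl
  have k : ∀ (c : G) (K : Subgroup G), (∀ r, R.IsPos r → r ≠ R.simple i → ∀ y ∈ C.Z r, c * y * c⁻¹ ∈ K) →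
      ∀ u ∈ U, c * u * c⁻¹ ∈ K := fun c K h u hu => by
    simpa using mem_cj.1 ((iSup₂_le fun r hr y hy => mem_cj.2 (by simpa using h r hr.1 hr.2 y hy) : U ≤ c⁻¹ •ᶜ K) hu)
  have k1 : ∀ y ∈ C.Z (R.simple i), ∀ u ∈ U, y * u * y⁻¹ ∈ U := fun y hy => k y U fun r h1 h2 a ha => by
    have := mul_mem (C.Z_cm h2 (fun e => (R.isPos_neg _).1 (e ▸ h1) (R.isPos_simple i)) hy ha fun k hk =>
      hU k (hk.isPos (R.isPos_simple i) h1) (hk.ne_simple (R.isPos_simple i) h1 i)) (hU r h1 h2 ha)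
    simpa [commutatorElement_def] using this
  have k2 : ∀ h ∈ C.H, ∀ u ∈ U, h * u * h⁻¹ ∈ U := fun h hh => k h U fun r h1 h2 a ha => hU r h1 h2 (C.Z_H hh ha)
  let T : Subgroup G :=
    { carrier := {g | ∃ h ∈ C.H, ∃ u ∈ U, ∃ y ∈ C.Z (R.simple i), g = h * u * y}
      one_mem' := ⟨1, one_mem _, 1, one_mem _, 1, one_mem _, by simp⟩
      mul_mem' := by
        rintro _ _ ⟨h, h1, u, u1, y, y1, rfl⟩ ⟨h', h2, u', u2, y', y2, rfl⟩
        have a := C.Z_H (inv_mem h2) y1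
        exact ⟨_, mul_mem h1 h2, _, mul_mem (k2 _ (inv_mem h2) u u1) (k1 _ a u' u2), _, mul_mem a y2, by group⟩
      inv_mem' := by
        rintro _ ⟨h, h1, u, u1, y, y1, rfl⟩
        exact ⟨_, inv_mem h1, _, k2 _ h1 _ (k1 _ (inv_mem y1) _ (inv_mem u1)), _, C.Z_H h1 (inv_mem y1), by group⟩ }
  obtain ⟨a, h1, u, u1, y, y1, rfl⟩ := (sup_le (fun h hh => ⟨h, hh, 1, one_mem _, 1, one_mem _, by simp⟩)
    (iSup₂_le fun r hr a ha => by
      by_cases e : r = R.simple i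
      exacts [⟨1, one_mem _, 1, one_mem _, a, e ▸ ha, by simp⟩, ⟨1, one_mem _, a, hU r hr e ha, 1, one_mem _, by simp⟩]) :
    C.B ≤ T) h
  refine ⟨a * u, ?_, y, y1, rfl⟩
  rw [← conj_mul]
  exact mul_mem (Subgroup.mem_sup_left (C.nH i a h1)) (k _ _ (fun r h1 h2 a ha =>
    C.Z_le (R.isPos_σ h1 h2) (by simpa [nw] using C.Z_nw [i] ha)) u u1)

theorem bruhat (h : g ∈ Subgroup.closure (Set.range C.n ∪ ⋃ i, C.Y (R.simple i))) :
    ∃ b ∈ C.B, ∃ l, ∃ b' ∈ C.B, g = b * C.nw l * b' := by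
  have k1 : ∀ a ∈ C.B, ∀ g, (∃ b ∈ C.B, ∃ l, ∃ b' ∈ C.B, g = b * C.nw l * b') →
      ∃ b ∈ C.B, ∃ l, ∃ b' ∈ C.B, a * g = b * C.nw l * b' := by
    rintro a ha _ ⟨b, hb, l, b', hb', rfl⟩
    exact ⟨_, mul_mem ha hb, l, b', hb', by group⟩
  have k2 : ∀ i g, (∃ b ∈ C.B, ∃ l, ∃ b' ∈ C.B, g = b * C.nw l * b') →
      ∃ b ∈ C.B, ∃ l, ∃ b' ∈ C.B, C.n i * g = b * C.nw l * b' := by
    rintro i _ ⟨b, hb, l, b', hb', rfl⟩
    obtain ⟨a, ha, y, hy, rfl⟩ := C.B_dec i hb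
    by_cases hp : R.IsPos (W[l]⁻¹ (R.simple i))
    · exact ⟨_, ha, i :: l, _, mul_mem (C.Z_le hp (C.Z_nw' l hy)) hb', by rw [nw_cons]; group⟩
    have m := C.nY i i _ (R.simple_mem_sub.2 (by simp)) y (C.Z_simple i ▸ hy)
    rw [R.σ_simple] at m
    rcases C.r1 i _ m with e | ⟨c, hc, h, hh, d, hd, e⟩
    · exact ⟨_, ha, i :: l, _, hb', by rw [nw_cons, conj_eq_one_iff.1 e]; group⟩
    have := C.Z_nw' (i :: l) (C.Z_simple i ▸ hd)
    rw [List.map_cons, List.prod_cons, mul_inv_rev, R.sp_inv, Equiv.Perm.mul_apply, R.sp_apply, R.σ_simple,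
      RootSys.W_neg (inv_mem (R.mem_W_iff.2 ⟨l, rfl⟩))] at this
    refine ⟨_, mul_mem ha (mul_mem (C.Z_le (R.isPos_simple i) (C.Z_simple i ▸ hc)) (Subgroup.mem_sup_left hh)), l, _,
      mul_mem (C.Z_le ((R.isPos_neg _).2 hp) this) hb', ?_⟩
    rw [nw_cons, mul_inv_rev, inv_eq_of_mul_eq_one_right (C.n_sq i)] at *
    calc _ = C.n i * a * C.n i * (C.n i * y * C.n i) * (C.n i * C.nw l * b') := by
          simp only [mul_assoc, ← mul_assoc (C.n i) (C.n i), C.n_sq, one_mul]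
      _ = _ := by rw [e]; group
  induction h using Subgroup.closure_induction_left with
  | one => exact ⟨1, one_mem _, [], 1, one_mem _, by simp [nw]⟩
  | mul_left x hx y _ ih =>
    rcases hx with ⟨i, rfl⟩ | hx
    · exact k2 i y ih
    · obtain ⟨i, hi⟩ := Set.mem_iUnion.1 hx
      exact k1 x (C.Z_le (R.isPos_simple i) (C.Z_simple i ▸ hi)) y ih
  | inv_mul_cancel x hx y _ ih =>
    rcases hx with ⟨i, rfl⟩ | hx
    · rw [inv_eq_of_mul_eq_one_right (C.n_sq i)]; exact k2 i y ih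
    · obtain ⟨i, hi⟩ := Set.mem_iUnion.1 hx
      exact k1 _ (inv_mem (C.Z_le (R.isPos_simple i) (C.Z_simple i ▸ hi))) y ih

/-- the kernel of a homomorphism separating the long root elements centralises the highest one -/
theorem commute (π : G →* G') {θ : ι} (hθ : W[l] (R.simple i) = θ) (pos : R.IsPos θ)
    (hi : ∀ s, R.IsPos s → ∀ k, ¬ R.IsComb θ s k) (h1 : y ∈ C.Y (R.simple i))
    (h2 : ∀ a ∈ C.Y (R.simple i), a = 1 ∨ a = y)
    (dist : ∀ r, r = θ ∨ (∃ l', W[l'] (R.simple i) = r ∧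
      π (C.nw l' * y * (C.nw l')⁻¹) ≠ π (C.nw l * y * (C.nw l)⁻¹)) ∨ R.len r ≠ R.len θ)
    (hg : g ∈ Subgroup.closure (Set.range C.n ∪ ⋃ i, C.Y (R.simple i))) (e : π g = 1) :
    Commute g (C.nw l * y * (C.nw l)⁻¹) := by
  have k0 : ∀ {l r}, W[l] (R.simple i) = r → C.nw l * y * (C.nw l)⁻¹ ∈ C.Z r ∧
      ∀ a ∈ C.Z r, a = 1 ∨ a = C.nw l * y * (C.nw l)⁻¹ := fun h =>
    ⟨(C.mem_Z h).2 (by simpa [mul_assoc] using h1), fun a ha => (h2 _ ((C.mem_Z h).1 ha)).imp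
      (fun e => by simpa [mul_assoc, inv_mul_eq_iff_eq_mul] using e) fun e => by rw [← e]; group⟩
  generalize hz : C.nw l * y * (C.nw l)⁻¹ = z at *
  obtain ⟨z1, z2⟩ := hz ▸ k0 hθ
  have k1 : ∀ c, c * z * c⁻¹ ∈ C.Z θ → Commute c z := fun c hc => (z2 _ hc).elim
    (fun e => by rw [conj_eq_one_iff.1 e]; exact Commute.one_right c) mul_inv_eq_iff_eq_mul.1
  have k2 : ∀ b ∈ C.B, Commute b z := fun b hb => Subgroup.mem_centralizer_singleton_iff.1 ((sup_le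
    (fun h hh => Subgroup.mem_centralizer_singleton_iff.2 (k1 h (C.Z_H hh z1))) (iSup₂_le fun s hs a ha =>
      Subgroup.mem_centralizer_singleton_iff.2 (by
        by_cases e : s = θ
        · rcases z2 a (e ▸ ha) with rfl | rfl <;> simp
        · exact (commutatorElement_eq_one_iff_commute.1 (Subgroup.mem_bot.1 (C.Z_cm e
            (fun e => (R.isPos_neg _).1 (e ▸ hs) pos) z1 ha fun k hk => absurd hk (hi s hs k)))).symm)) :
      C.B ≤ Subgroup.centralizer {z}) hb)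
  obtain ⟨b, hb, m, b', hb', rfl⟩ := C.bruhat hg
  refine ((k2 b hb).mul_left (k1 _ ?_)).mul_left (k2 b' hb')
  have k3 := C.Z_nw m z1
  rcases dist (W[m] θ) with h | ⟨l', e1, e2⟩ | h
  · exact h ▸ k3
  · have : Commute (π (C.nw m)) (π z) := by
      rw [show π (C.nw m) = π (b⁻¹ * b'⁻¹) by
        rw [map_mul, map_mul, mul_eq_one_iff_eq_inv, ← eq_inv_mul_iff_mul_eq] at e; simp [e]]
      exact ((k2 b hb).inv_left.mul_left (k2 b' hb').inv_left).map π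
    rcases (k0 e1).2 _ k3 with h | h
    · rw [conj_eq_one_iff.1 h]; simp
    · exact absurd (by rw [← h, map_mul, map_mul, this.eq, map_inv, mul_inv_cancel_right]) e2
  · exact absurd (RootSys.W_len (R.mem_W_iff.2 ⟨m, rfl⟩) θ) h

end RG2

end CL.E6U
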