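import Cfsg.Agent.SPOR.E6U.RG

/-!
Root subgroups from data attached to the simple roots only.
-/

set_option autoImplicit false
set_option linter.unusedSectionVars false

namespace CL.E6U

open CL.Chev CL.Cox CL.MSS
open scoped commutatorElement

/-- root subgroups for the simple roots -/
structure RG1 {ι κ : Type*} [Fintype κ] [DecidableEq κ] (R : RootSys ι κ) (G : Type*) [Group G] where
  x : κ → G
  n : κ → G
  Y : κ → Subgroup G
  H : Subgroup G
  cox : ∀ i j, (n i * n j) ^ orderOf (R.sp i * R.sp j) = 1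
  nH : ∀ i, ∀ h ∈ H, n i * h * (n i)⁻¹ ∈ H
  HY : ∀ h ∈ H, ∀ i, ∀ y ∈ Y i, h * y * h⁻¹ ∈ Y i
  xY : ∀ i, x i ∈ Y i
  tr : ∀ i, ∀ y ∈ Y i, y = 1 ∨ ∃ h ∈ H, y = h * x i * h⁻¹
  br : ∀ i, n i * x i * (n i)⁻¹ = x i * n i * x i
  two : ∀ i j k, ∀ v ∈ R.WJ {i, j}, v (R.simple i) = R.simple k →
    ∃ l : List κ, (l.map R.sp).prod = v ∧ (l.map n).prod * x i * (l.map n).prod⁻¹ ∈ Y k

namespace RG1

variable {ι κ : Type*} [Fintype κ] [DecidableEq κ] {R : RootSys ι κ} {G : Type*} [Group G]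
  (C : RG1 R G) {l l' : List κ} {i j : κ} {r s : ι} {g y : G}

local notation "W[" l "]" => List.prod (List.map R.sp l)

/-- the datum with trivial root subgroups -/
def triv : RG2 R G where
  Y _ := ⊥
  n := C.n
  H := C.H
  cox := C.cox
  nH := C.nH
  HY _ _ _ _ h := by simpa using h
  nY _ _ _ _ _ h := by simpa using h
  cm _ _ _ _ _ _ _ _ _ h _ _ := by rw [Subgroup.mem_bot.1 h, commutatorElement_one_left]; exact one_mem _
  r1 _ _ h := .inl h

local notation "N[" l "]" => RG2.nw (triv C) l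

variable [Finite ι]

theorem conj_simple (h : W[l] (R.simple i) = R.simple j) (hy : y ∈ C.Y i) : N[l] * y * N[l]⁻¹ ∈ C.Y j := by
  induction hn : R.ell W[l] using Nat.strong_induction_on generalizing l i y with
  | _ n ih =>
  by_cases h1 : W[l] = 1
  · rw [h1] at h
    obtain rfl : i = j := R.simple_injective h
    rw [C.triv.nw_congr (l' := []) h1]
    simpa [RG2.nw] using hy
  obtain ⟨k, m, v, hv, w', hw', e1, e2, e3, hlt⟩ := RootSys.exists_factor (R.mem_W_iff.2 ⟨l, rfl⟩) h1 h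
  obtain ⟨l2, rfl, k2⟩ := C.two i k m v hv e2
  obtain ⟨l1, rfl⟩ := R.mem_W_iff.1 hw'
  have k3 : N[l2] * y * N[l2]⁻¹ ∈ C.Y m := by
    rcases C.tr i y hy with rfl | ⟨a, ha, rfl⟩
    · simp
    · convert C.HY _ (C.triv.nw_H l2 ha) m _ k2 using 1
      change _ = _ * (N[l2] * _ * N[l2]⁻¹) * _
      group
  convert ih _ (hn ▸ hlt) e3 k3 rfl using 1
  rw [C.triv.nw_congr (l' := l1 ++ l2) (by simpa using e1), RG2.nw_append]; group

/-- the root subgroups -/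
def Z (r : ι) : Subgroup G := ⨅ (l : List κ) (i : κ) (_ : W[l] (R.simple i) = r), N[l] •ᶜ C.Y i

theorem mem_Z (h : W[l] (R.simple i) = r) : g ∈ C.Z r ↔ N[l]⁻¹ * g * N[l] ∈ C.Y i := by
  simp only [Z, Subgroup.mem_iInf, mem_cj]
  refine ⟨fun k => k l i h, fun k l' j e => ?_⟩
  convert C.conj_simple (l := l'.reverse ++ l) (j := j) (by
    rw [List.map_append, List.prod_append, RG2.W_rev, Equiv.Perm.mul_apply, h, ← e]; simp) k using 1
  rw [RG2.nw_append, RG2.nw_rev]; group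

theorem Z_simple (i : κ) : C.Z (R.simple i) = C.Y i := by
  ext g
  simpa [RG2.nw] using C.mem_Z (l := []) (i := i) (g := g) rfl

theorem Z_nw (l : List κ) (h : g ∈ C.Z r) : N[l] * g * N[l]⁻¹ ∈ C.Z (W[l] r) := by
  obtain ⟨l', i, e⟩ := RG2.ex_word (R := R) r
  rw [C.mem_Z (l := l ++ l') (i := i) (by simp [e])]
  convert (C.mem_Z e).1 h using 1
  rw [RG2.nw_append]; group

theorem Z_H {h : G} (hh : h ∈ C.H) (hg : g ∈ C.Z r) : h * g * h⁻¹ ∈ C.Z r := by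
  obtain ⟨l, i, e⟩ := RG2.ex_word (R := R) r
  rw [C.mem_Z e] at hg ⊢
  convert C.HY _ (C.triv.nw_H l.reverse hh) i _ hg using 1
  rw [RG2.nw_rev]; group

/-- the commutator relations -/
def Cm : Prop := ∀ i j, ∀ s ∈ R.sub {i, j}, s ≠ R.simple i → s ≠ R.neg (R.simple i) → ∀ y ∈ C.Z s,
  ⁅C.x i, y⁆ ∈ ⨆ (k : ι) (_ : R.IsComb (R.simple i) s k), C.Z k

theorem cj_sup {P Q : ι → Prop} {c : G} (h : ∀ k, P k → ∀ a ∈ C.Z k, ∃ k', Q k' ∧ c * a * c⁻¹ ∈ C.Z k')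
    (hg : g ∈ ⨆ (k : ι) (_ : P k), C.Z k) : c * g * c⁻¹ ∈ ⨆ (k : ι) (_ : Q k), C.Z k := by
  have : (⨆ (k : ι) (_ : P k), C.Z k) ≤ c⁻¹ •ᶜ ⨆ (k : ι) (_ : Q k), C.Z k := iSup₂_le fun k hk a ha => mem_cj.2 (by
    obtain ⟨k', h1, h2⟩ := h k hk a ha
    simpa using le_iSup₂_of_le (f := fun k (_ : Q k) => C.Z k) k' h1 le_rfl h2)
  simpa using mem_cj.1 (this hg)

/-- the full datum -/
def full (hc : C.Cm) : RG2 R G where
  Y := C.Z
  n := C.n
  H := C.H
  cox := C.cox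
  nH := C.nH
  HY _ hh _ _ h := C.Z_H hh h
  nY i _ _ _ _ h := by simpa [RG2.nw, triv] using C.Z_nw [i] h
  cm i j r hr s hs h1 h2 y hy z hz := by
    obtain ⟨w, hw, m, hm, rfl⟩ := R.exists_WJ_simple hr
    obtain ⟨l, hl, rfl⟩ := R.mem_WJ_iff.1 hw
    have hW := R.WJ_le_W _ hw
    have z1 := C.Z_nw l.reverse hz
    rw [RG2.nw_rev, RG2.W_rev, inv_inv] at z1
    rcases C.tr m _ ((C.mem_Z rfl).1 hy) with e | ⟨a, ha, e⟩
    · rw [show y = 1 by simpa [mul_assoc, inv_mul_eq_iff_eq_mul] using e, commutatorElement_one_left]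
      exact one_mem _
    obtain ⟨m', hm'⟩ : ∃ m', ({m, m'} : Set κ) = {i, j} := by
      rcases hm with rfl | rfl
      exacts [⟨j, rfl⟩, ⟨i, Set.pair_comm ..⟩]
    have k := hc m m' _ (hm' ▸ (RootSys.WJ_mem_sub (inv_mem hw)).2 hs) (fun e => h1 (by rw [← e]; simp))
      (fun e => h2 (by rw [← RootSys.W_neg hW, ← e]; simp)) _ (C.Z_H (inv_mem ha) z1)
    convert C.cj_sup (c := N[l] * a) (Q := R.IsComb _ s) (fun k hk b hb => ⟨_, by simpa using hk.W hW, by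
      convert C.Z_nw l (C.Z_H ha hb) using 1; group⟩) k using 1
    rw [show y = N[l] * (a * C.x m * a⁻¹) * N[l]⁻¹ by rw [← e]; group]
    simp only [commutatorElement_def]; group
  r1 i y hy := by
    have e : N[[i]] = C.n i := mul_one _
    rcases C.tr i _ ((C.mem_Z (l := [i]) (by simp [R.σ_simple])).1 hy) with k | ⟨a, ha, k⟩
    · exact .inl (by simpa [mul_assoc, inv_mul_eq_iff_eq_mul] using k)
    have b := C.nH i a ha
    have m := C.Z_simple i ▸ C.HY _ b i _ (C.xY i)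
    refine .inr ⟨_, m, _, mul_mem b (C.nH i _ (inv_mem b)), _, m, ?_⟩
    rw [show y = C.n i * a * (C.n i)⁻¹ * (C.n i * C.x i * (C.n i)⁻¹) * (C.n i * a * (C.n i)⁻¹)⁻¹ by
      rw [show y = C.n i * (a * C.x i * a⁻¹) * (C.n i)⁻¹ by rw [← k, e]; group]; group, C.br]
    group

end RG1

end CL.E6U
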