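import Cfsg.Agent.SPOR.E6U.TCTD
import Cfsg.Agent.SPOR.E6U.TCT1
import Cfsg.Agent.SPOR.D42.CT2
import Cfsg.Agent.CHEV.Order

/-!
Root subgroups of type `²E₆(2)` from relations between sixteen involutions.
-/

set_option autoImplicit false

namespace CL.E6U

open CL.CE CL.Chev CL.MSS Cfsg.Lie Subgroup
open scoped commutatorElement

variable {G : Type*} [Group G] {g : ℕ → G}

/-- the relations -/
structure TH (g : ℕ → G) : Prop where
  sq : ∀ i < 16, g i * g i = 1
  hex : ∃ h, D42.Hex h ∧ h 0 = g 2 ∧ h 3 = g 3 ∧ h 2 = g 0 ∧ h 5 = g 1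
  br : g 0 * g 1 * g 0 = g 1 * g 0 * g 1
  cm : ∀ i < 2, ∀ j, 4 ≤ j → j < 16 → Commute (g i) (g j)
  hR : ∀ r ∈ R234, ev g r = 1

namespace Tc

/-- free reduction -/
def red : List ℕ → List ℕ
  | [] => []
  | a :: l => match red l with
    | [] => [a]
    | b :: t => if a = b then t else a :: b :: t

/-- words for the six roots of `A₂` -/
def yy (p : ℕ) : List ℕ := [[2], n1 ++ [2] ++ n1, [0], n2 ++ [2] ++ n2, n1 ++ n2 ++ [2] ++ n2 ++ n1, n1 ++ [0] ++ n1].getD p []

/-- a commutator relator -/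
def cr (p q : ℕ) (w : List ℕ) : List ℕ := yy p ++ yy q ++ yy p ++ yy q ++ w

/-- relators of type `A₂` -/
def RA : List (List ℕ) := [[0, 1, 0, 1, 0, 1], n2 ++ n1 ++ n2 ++ n1 ++ n2 ++ n1, n2 ++ yy 1 ++ n2 ++ [0],
  n1 ++ (n2 ++ [0] ++ n2) ++ n1 ++ [2], cr 0 4 (yy 5), cr 0 5 [], cr 0 2 (yy 1), cr 0 1 [], cr 2 4 (yy 3), cr 2 3 [],
  cr 2 0 (yy 1), cr 2 1 []]

/-- test for a relator -/
def ok1 (w : List ℕ) : Bool := R234.elem w || RA.elem w || red w == [] ||
  (w.all (fun a => a != 2 && a != 3) && red (w.filter (· < 2)) == [] && red (w.filter (2 ≤ ·)) == [])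

/-- test for a relator -/
def ok (w : List ℕ) : Bool := w.all (· < 16) && (ok1 w || ok1 w.reverse)

theorem refl {h : ZMod 6 → G} (H : D42.Hex h) (i : ZMod 6) (b : h i * h (i + 3) * h i = h (i + 3) * h i * h (i + 3))
    {n : G} (e : n = h i * h (i + 3) * h i) : n * h i * n = h (i + 3) ∧ n * h (i + 1) * n = h (i + 2) ∧
      n * h (i + 2) * n = h (i + 1) ∧ n * h (i + 3) * n = h i ∧ n * h (i + 4) * n = h (i + 5) := by
  have c : ∀ p t, h p * (h p * t) = t := fun p t => by rw [← mul_assoc, H.sq, one_mul]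
  have nn : ∀ t, n * (n * t) = t := fun t => by simp only [e, mul_assoc, c]
  have k : ∀ {a b}, n * a * n = b → n * b * n = a := fun k => by
    have := nn 1
    rw [mul_one] at this
    rw [← k]; simp only [mul_assoc, nn, this, mul_one]
  have a1 : n * h i * n = h (i + 3) := by
    nth_rewrite 1 [e.trans b]
    simp only [e, mul_assoc, c, H.sq, mul_one]
  have a2 : n * h (i + 1) * n = h (i + 2) := by
    have e1 := H.conj' (i + 1)
    have e2 := H.comm (i + 1)
    simp only [add_assoc, show (1 + 2 : ZMod 6) = 3 from rfl, show (1 + 1 : ZMod 6) = 2 from rfl] at e1 e2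
    calc _ = h i * (h (i + 3) * (h i * h (i + 1) * h i) * h (i + 3)) * h i := by simp only [e, mul_assoc]
      _ = h i * (h (i + 1) * h (i + 2)) * h i := by rw [H.comm i, mul_assoc (h (i + 1)), H.sq, mul_one, e1]
      _ = h (i + 1) * (h i * h (i + 2) * h i) := by rw [← mul_assoc, H.comm i]; simp only [mul_assoc]
      _ = _ := by rw [H.conj, ← e2, c]
  have a3 : n * h (i + 5) * n = h (i + 4) := by
    have e1 := H.conj (i + 3)
    have e2 := H.comm (i + 4)
    have e3 := H.comm (i + 5)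
    have e4 := H.conj' (i + 4)
    simp only [add_assoc, show (3 + 2 : ZMod 6) = 5 from rfl, show (3 + 1 : ZMod 6) = 4 from rfl,
      show (4 + 1 : ZMod 6) = 5 from rfl, show (5 + 1 : ZMod 6) = 0 from rfl, show (4 + 2 : ZMod 6) = 0 from rfl,
      add_zero] at e1 e2 e3 e4
    calc _ = h i * (h (i + 3) * (h i * h (i + 5) * h i) * h (i + 3)) * h i := by simp only [e, mul_assoc]
      _ = h i * (h (i + 5) * h (i + 4)) * h i := by rw [← e3, mul_assoc (h (i + 5)), H.sq, mul_one, e1]
      _ = h (i + 5) * (h i * h (i + 4) * h i) := by rw [← mul_assoc, ← e3]; simp only [mul_assoc]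
      _ = _ := by rw [e4, e2, c]
  exact ⟨a1, a2, k a2, k a1, k a3⟩

end Tc

open Tc

namespace TH

variable (T : TH g)
include T

theorem rev {w : List ℕ} (h : ∀ a ∈ w, a < 16) : ev g w.reverse = (ev g w)⁻¹ := by
  induction w with
  | nil => simp [ev]
  | cons a w ih =>
    rw [List.reverse_cons, ev_append, ih fun b hb => h b (.tail _ hb), ev_cons, ev_cons, ev_nil, mul_one, mul_inv_rev,
      inv_eq_of_mul_eq_one_right (T.sq a (h a (.head _)))]

theorem ev_red {w : List ℕ} (h : ∀ a ∈ w, a < 16) : ev g (red w) = ev g w := by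
  induction w with
  | nil => rfl
  | cons a w ih =>
    rw [ev_cons, ← ih fun b hb => h b (.tail _ hb), red]
    rcases red w with _ | ⟨b, t⟩
    · rfl
    · dsimp only
      split_ifs with e
      · rw [ev_cons, ← e, ← mul_assoc, T.sq a (h a (.head _)), one_mul]
      · rfl

theorem split {w : List ℕ} (h : ∀ a ∈ w, a < 16 ∧ a ≠ 2 ∧ a ≠ 3) :
    ev g w = ev g (w.filter (· < 2)) * ev g (w.filter (2 ≤ ·)) := by
  induction w with
  | nil => simp [ev]
  | cons a w ih =>
    rw [ev_cons, ih fun b hb => h b (.tail _ hb)]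
    by_cases e : a < 2
    · rw [List.filter_cons_of_pos (by simpa using e), List.filter_cons_of_neg (by simpa using e), ev_cons, mul_assoc]
    · rw [List.filter_cons_of_neg (by simpa using e), List.filter_cons_of_pos (by simpa using not_lt.1 e), ev_cons,
        ← mul_assoc, ← mul_assoc]
      refine congrArg (· * _) (Commute.list_prod_right _ _ fun x hx => ?_).eq
      obtain ⟨b, hb, rfl⟩ := List.mem_map.1 hx
      have := h a (.head _)
      exact (T.cm b (by simpa using (List.mem_filter.1 hb).2) a (by omega) this.1).symm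

theorem ra : ∀ r ∈ RA, ev g r = 1 := by
  obtain ⟨h, H, h0, h3, h2, h5⟩ := T.hex
  have c : ∀ p t, h p * (h p * t) = t := fun p t => by rw [← mul_assoc, H.sq, one_mul]
  have b2 : g 2 * g 3 * g 2 = g 3 * g 2 * g 3 := by
    have := T.hR [2, 3, 2, 3, 2, 3] (by decide)
    rw [show [2, 3, 2, 3, 2, 3] = [2, 3, 2] ++ [3, 2, 3].reverse from rfl, ev_append, T.rev (by decide),
      mul_inv_eq_one] at this
    simpa [ev, mul_assoc] using this
  have e1 : ev g n1 = h 2 * h (2 + 3) * h 2 := by simp [ev, n1, mul_assoc, h2, ← h5]; rfl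
  have e2 : ev g n2 = h 0 * h (0 + 3) * h 0 := by simp [ev, n2, mul_assoc, h0, ← h3]
  obtain ⟨a1, a2, -, -, a5⟩ := refl H 2 (by rw [show (2 + 3 : ZMod 6) = 5 from rfl, h2, h5, T.br]) e1
  obtain ⟨c1, c2, c3, -, c5⟩ := refl H 0 (by rw [zero_add, h0, h3, b2]) e2
  change _ * h 2 * _ = h 5 at a1
  change _ * h 3 * _ = h 4 at a2
  change _ * h 0 * _ = h 1 at a5
  change _ * h 0 * _ = h 3 at c1
  change _ * h 1 * _ = h 2 at c2
  change _ * h 2 * _ = h 1 at c3
  change _ * h 4 * _ = h 5 at c5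
  have n1s : ∀ t, ev g n1 * (ev g n1 * t) = t := fun t => by simp only [e1, mul_assoc, c]
  have n2s : ∀ t, ev g n2 * (ev g n2 * t) = t := fun t => by simp only [e2, mul_assoc, c]
  have y : ∀ p : ZMod 6, ev g (yy p.val) = h p := fun p => by
    have : p = 0 ∨ p = 1 ∨ p = 2 ∨ p = 3 ∨ p = 4 ∨ p = 5 := by revert p; decide
    rcases this with rfl | rfl | rfl | rfl | rfl | rfl
    · exact (ev_singleton ..).trans h0.symm
    · rw [← a5, h0]; exact (ev_append ..).trans (by rw [ev_append, ev_singleton])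
    · exact (ev_singleton ..).trans h2.symm
    · rw [← c1, h0]; exact (ev_append ..).trans (by rw [ev_append, ev_singleton])
    · rw [← a2, ← c1, h0]; exact (ev_append ..).trans (by simp only [ev_append, ev_singleton, mul_assoc])
    · rw [← a1, h2]; exact (ev_append ..).trans (by rw [ev_append, ev_singleton])
  have k1 : ∀ p q : ZMod 6, ∀ w, h p * h q * h p * h q * ev g w = 1 → ev g (cr p.val q.val w) = 1 := fun p q w e => by
    simpa only [cr, ev_append, y] using e
  have k2 : ∀ p q : ZMod 6, h p * h q = h q * h p → h p * h q * h p * h q * ev g [] = 1 := fun p q e => by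
    rw [e, mul_assoc (h q), H.sq, mul_one, H.sq, one_mul, ev_nil]
  have k4 : ∀ p q r : ZMod 6, h q * h p * h q = h p * h r → h p * h q * h p * h q * ev g (yy r.val) = 1 :=
    fun p q r e => by
      rw [show h p * h q * h p * h q = h p * (h q * h p * h q) by simp only [mul_assoc], e, y, c, H.sq]
  simp only [RA, List.forall_mem_cons]
  refine ⟨?_, ?_, ?_, ?_, k1 0 4 _ (k4 0 4 5 (H.conj 4)), k1 0 5 _ (k2 0 5 (H.comm 5).symm),
    k1 0 2 _ (k4 0 2 1 (H.conj' 0)), k1 0 1 _ (k2 0 1 (H.comm 0)), k1 2 4 _ (k4 2 4 3 (H.conj' 2)),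
    k1 2 3 _ (k2 2 3 (H.comm 2)), k1 2 0 _ (k4 2 0 1 (H.conj 0)), k1 2 1 _ (k2 2 1 (H.comm 1).symm), by simp⟩
  · rw [show [0, 1, 0, 1, 0, 1] = [0, 1, 0] ++ [1, 0, 1].reverse from rfl, ev_append, T.rev (by decide), mul_inv_eq_one]
    simpa [ev, mul_assoc] using T.br
  · have f0 : ev g n2 * h 5 * ev g n2 = h 4 := by
      have := n2s 1
      rw [mul_one] at this
      rw [← c5]; simp only [mul_assoc, n2s, this, mul_one]
    have f1 : ev g n2 * ev g n1 * ev g n2 = h 1 * h 4 * h 1 := by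
      rw [← c3, ← f0]
      nth_rewrite 1 [e1]
      simp only [mul_assoc, n2s]; rfl
    have f2 : ev g n1 * ev g n2 * ev g n1 = h 1 * h 4 * h 1 := by
      rw [← a5, ← a2]
      nth_rewrite 1 [e2]
      simp only [mul_assoc, n1s]; rfl
    simp only [ev_append]
    rw [f1, mul_assoc, mul_assoc, ← mul_assoc (ev g n1), f2]
    simp only [mul_assoc, c, H.sq]
  · rw [ev_append, ev_append, ev_append, show ev g (yy 1) = h 1 from y 1, c2, ev_singleton, ← h2, H.sq]
  · simp only [ev_append, ev_singleton, ← h0, ← h2, c3]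
    rw [← a5]
    simp only [mul_assoc, n1s, H.sq]

theorem ok1_spec {w : List ℕ} (h : ∀ a ∈ w, a < 16) (k : ok1 w = true) : ev g w = 1 := by
  simp only [ok1, Bool.or_eq_true, List.elem_eq_mem, decide_eq_true_eq, beq_iff_eq, Bool.and_eq_true, List.all_eq_true,
    bne_iff_ne] at k
  rcases k with ((k | k) | k) | ⟨⟨k1, k2⟩, k3⟩
  · exact T.hR w k
  · exact T.ra w k
  · rw [← T.ev_red h, k, ev_nil]
  · rw [T.split fun a ha => ⟨h a ha, k1 a ha⟩, ← T.ev_red fun a ha => h a (List.mem_filter.1 ha).1, k2,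
      ← T.ev_red (w := w.filter _) fun a ha => h a (List.mem_filter.1 ha).1, k3, ev_nil, one_mul]

theorem ok_spec {w : List ℕ} (k : ok w = true) : ev g w = 1 := by
  simp only [ok, Bool.or_eq_true, Bool.and_eq_true, List.all_eq_true, decide_eq_true_eq] at k
  rcases k with ⟨h, k | k⟩
  · exact T.ok1_spec h k
  · simpa [T.rev h] using T.ok1_spec (fun a ha => h a (List.mem_reverse.1 ha)) k

end TH

end CL.E6U
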