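import Cfsg.Agent.SPOR.E6U.TCT2

/-!
The root datum of type `F₄` attached to sixteen involutions.
-/

set_option autoImplicit false

namespace CL.E6U

open CL.CE CL.Chev CL.MSS Cfsg.Lie Subgroup
open scoped commutatorElement

variable {G : Type*} [Group G] {g : ℕ → G}

namespace Tc

/-- indices of simple roots -/
abbrev I4 := Fin chevF4.rank

/-- an index -/
def ix (k : ℕ) : I4 := (Fin.ofNat 4 k : Fin 4)

/-- a root -/
def rt (k : ℕ) : Rt chevF4 := (Fin.ofNat 48 k : Fin 48)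

/-- the letters of a simple root group -/
def Xs (i : I4) : List ℕ := [[4, 5, 6], [10, 11, 12], [2], [0]].getD i []

/-- the first letter -/
def x0 (i : I4) : ℕ := [4, 10, 2, 0].getD i 0

/-- the opposite letter -/
def x1 (i : I4) : ℕ := [7, 13, 3, 1].getD i 0

/-- the reflections -/
def nw1 (i : I4) : List ℕ := [x0 i, x1 i, x0 i]

/-- conjugate of a letter by a Weyl word -/
def cjw (l : List I4) (a : ℕ) : List ℕ := l.flatMap nw1 ++ [a] ++ (l.flatMap nw1).reverse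

/-- the torus -/
def hw : List ℕ := [5, 9, 5, 4, 7, 4]

/-- action of a word on a root -/
def ac (l : List I4) (r : Rt chevF4) : Rt chevF4 := l.foldr rsT r

/-- words for the roots -/
def cl (r : Rt chevF4) : List I4 := ([[3, 2, 1, 2, 3, 0, 1, 2], [2, 1, 2, 3, 0, 1, 2], [1, 2, 3, 0, 1, 2],
  [0, 1, 2, 3, 1, 2, 1, 0], [2, 3, 0, 1, 2], [3, 0, 1, 2], [0, 1, 2], [1, 2, 3, 1, 2, 1, 0], [2, 3, 1, 2, 1, 0],
  [3, 1, 2, 1, 0], [1, 2, 1, 0], [3, 2, 1, 0], [2, 1, 0], [1, 0], [0], [2, 3, 1, 2], [3, 1, 2], [1, 2], [3, 2, 1], [2, 1],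
  [1], [3, 2], [2], [3], [], [], [3], [], [2], [3, 2], [1], [3, 1], [2, 3, 1], [], [1], [2, 1], [3, 2, 1], [1, 2, 1],
  [3, 1, 2, 1], [2, 3, 1, 2, 1], [1, 2, 3, 1, 2, 1], [0, 1], [3, 0, 1], [2, 3, 0, 1], [0, 1, 2, 3, 1, 2, 1],
  [1, 2, 3, 0, 1], [2, 1, 2, 3, 0, 1], [3, 2, 1, 2, 3, 0, 1]].getD r []).map ix

/-- simple roots for the roots -/
def ck (r : Rt chevF4) : I4 := ix ([2, 2, 2, 0, 2, 2, 2, 0, 0, 0, 0, 0, 0, 0, 0, 2, 2, 2, 1, 1, 1, 2, 2, 3, 3, 2, 2, 1, 1,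
  1, 2, 2, 2, 0, 0, 0, 0, 0, 0, 0, 0, 2, 2, 2, 0, 2, 2, 2].getD r 0)

/-- the commutators -/
def cert (i : I4) (s : Rt chevF4) (a : ℕ) : List (ℕ × ℕ × ℕ × ℕ) := (List.lookup (i.val * 1000 + s.val * 16 + a)
  [(212, [(20, 1, 1, 10)]), (213, [(20, 1, 1, 11)]), (214, [(20, 1, 1, 12)]), (442, [(34, 1, 1, 4)]),
  (443, [(34, 1, 1, 5)]), (444, [(34, 1, 1, 6)]), (1212, [(14, 1, 1, 4)]), (1213, [(14, 1, 1, 5)]),
  (1214, [(14, 1, 1, 6)]), (1274, [(19, 1, 1, 10), (22, 2, 1, 2)]), (1315, [(22, 1, 1, 2)]), (1316, [(22, 1, 1, 2)]),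
  (1402, [(28, 1, 1, 10), (30, 2, 1, 2)]), (1459, [(30, 1, 1, 2)]), (1460, [(30, 1, 1, 2)]), (1532, [(34, 1, 1, 4)]),
  (1533, [(34, 1, 1, 5)]), (1534, [(34, 1, 1, 6)]), (2314, [(17, 1, 2, 2), (20, 1, 1, 10)]),
  (2315, [(17, 1, 2, 2), (20, 1, 1, 11)]), (2316, [(17, 1, 2, 2), (20, 1, 1, 12)]), (2338, [(23, 1, 1, 0)]),
  (2384, [(26, 1, 1, 2)]), (2442, [(28, 1, 1, 10), (30, 1, 2, 2)]), (2443, [(28, 1, 1, 11), (30, 1, 2, 2)]),
  (2444, [(28, 1, 1, 12), (30, 1, 2, 2)]), (3338, [(22, 1, 1, 2)]), (3402, [(26, 1, 1, 2)])]).getD []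

/-- the dihedral groups -/
def dw (i j : I4) : List (List I4) := [[], [i], [j], [i, j], [j, i], [i, j, i], [j, i, j], [i, j, i, j]]

theorem ac_eq (l : List I4) (r : Rt chevF4) : (l.map (rootSys chevF4).sp).prod r = ac l r := by
  induction l with
  | nil => rfl
  | cons i l ih => rw [List.map_cons, List.prod_cons, Equiv.Perm.mul_apply, ih]; exact rf_sm_eq i _

theorem chk1 : ∀ i : I4, x0 i ∈ Xs i ∧ x1 i < 16 ∧ (∀ a ∈ Xs i, a < 16 ∧ (∀ b ∈ Xs i, a = b ∨ ∃ c ∈ Xs i, ok [a, b, c]) ∧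
    (∃ b ∈ Xs i, ok (hw ++ [a] ++ hw.reverse ++ [b])) ∧ (∃ b ∈ Xs i, ok (hw ++ [b] ++ hw.reverse ++ [a])) ∧
    (a = x0 i ∨ ok (hw ++ [x0 i] ++ hw.reverse ++ [a]) ∨ ok (hw ++ [a] ++ hw.reverse ++ [x0 i]))) ∧
    (ok (nw1 i ++ hw ++ nw1 i ++ hw) ∨ ok (nw1 i ++ hw ++ nw1 i ++ hw.reverse)) ∧
    ok ([x0 i, x1 i, x0 i] ++ [x1 i, x0 i, x1 i].reverse) ∧
    ∀ j : I4, ok (List.replicate (CoxeterMatrix.F₄ i j) (nw1 i ++ nw1 j)).flatten := by decide +kernel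

theorem chk2 : ∀ i j : I4, ∀ l ∈ dw i j, (∀ m ∈ [i, j], ∃ l' ∈ dw i j, ∀ r, ac (m :: l) r = ac l' r) ∧
    ∀ k, ac l (sm i) = sm k → ∃ l' ∈ dw i j, (∀ r, ac l' r = ac l r) ∧ ∃ b ∈ Xs k, ok (cjw l' (x0 i) ++ [b]) := by
  decide +kernel

theorem chk3 : ∀ r, ac (cl r) (sm (ck r)) = r := by decide +kernel

theorem chk4 : ∀ (i j : I4) (s : Rt chevF4), (∀ m, m ≠ i → m ≠ j → co s m = 0) → s ≠ sm i → s ≠ ng (sm i) →
    ∀ a ∈ Xs (ck s), (∀ t ∈ cert i s a, 0 < t.2.1 ∧ 0 < t.2.2.1 ∧ t.2.2.2 ∈ Xs (ck (rt t.1)) ∧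
      ∀ m, co (rt t.1) m = t.2.1 * co (sm i) m + t.2.2.1 * co s m) ∧
    ok ([x0 i] ++ cjw (cl s) a ++ [x0 i] ++ cjw (cl s) a ++ (cert i s a).flatMap fun t => cjw (cl (rt t.1)) t.2.2.2) := by
  decide +kernel

theorem chk5 : ∀ a < 16, ∃ i : I4, a ∈ Xs i ∨ a = x1 i ∨ ∃ b ∈ Xs i, ok (nw1 i ++ [b] ++ nw1 i ++ [a]) := by decide +kernel

theorem nw1_lt (i : I4) : ∀ a ∈ nw1 i, a < 16 := by revert i; decide +kernel

end Tc

open Tc

namespace TH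

variable (T : TH g)
include T

theorem inv {a : ℕ} (h : a < 16) : (g a)⁻¹ = g a := inv_eq_of_mul_eq_one_right (T.sq a h)

theorem of_ok {w : List ℕ} {a : ℕ} (ha : a < 16) (h : ok (w ++ [a]) = true) : ev g w = g a := by
  have := T.ok_spec h
  rwa [ev_append, ev_singleton, mul_eq_one_iff_eq_inv, T.inv ha] at this

theorem of_hw {a b : ℕ} (hb : b < 16) (h : ok (hw ++ [a] ++ hw.reverse ++ [b]) = true) :
    ev g hw * g a * (ev g hw)⁻¹ = g b := by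
  rw [← T.of_ok hb h, ev_append, ev_append, ev_singleton, T.rev (by decide)]

theorem n_inv (i : I4) : (ev g (nw1 i))⁻¹ = ev g (nw1 i) := (T.rev (nw1_lt i)).symm

theorem ev_cjw (l : List I4) (a : ℕ) : ev g (cjw l a) =
    (l.map fun i => ev g (nw1 i)).prod * g a * (l.map fun i => ev g (nw1 i)).prod⁻¹ := by
  have : ev g (l.flatMap nw1) = (l.map fun i => ev g (nw1 i)).prod := by
    induction l with
    | nil => rfl
    | cons i l ih => rw [List.flatMap_cons, ev_append, ih, List.map_cons, List.prod_cons]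
  rw [cjw, ev_append, ev_append, ev_singleton, T.rev fun a ha => ?_, this]
  obtain ⟨i, -, h⟩ := List.mem_flatMap.1 ha
  exact nw1_lt i a h

/-- the simple root groups -/
def Y (i : I4) : Subgroup G where
  carrier := {y | y = 1 ∨ ∃ a ∈ Xs i, y = g a}
  one_mem' := .inl rfl
  mul_mem' := by
    rintro _ _ (rfl | ⟨a, ha, rfl⟩) (rfl | ⟨b, hb, rfl⟩)
    · exact .inl (mul_one _)
    · exact .inr ⟨b, hb, one_mul _⟩
    · exact .inr ⟨a, ha, mul_one _⟩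
    obtain ⟨h1, h2, -⟩ := (chk1 i).2.2.1 a ha
    rcases h2 b hb with rfl | ⟨c, hc, e⟩
    · exact .inl (T.sq a h1)
    · exact .inr ⟨c, hc, by simpa [ev] using T.of_ok (w := [a, b]) ((chk1 i).2.2.1 c hc).1 e⟩
  inv_mem' := by
    rintro _ (rfl | ⟨a, ha, rfl⟩)
    exacts [.inl inv_one, .inr ⟨a, ha, T.inv ((chk1 i).2.2.1 a ha).1⟩]

/-- the datum -/
def rg : RG1 (rootSys chevF4) G where
  x i := g (x0 i)
  n i := ev g (nw1 i)
  Y := T.Y
  H := zpowers (ev g hw)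
  cox i j := by
    rw [show orderOf ((rootSys chevF4).sp i * (rootSys chevF4).sp j) = _ from (isCox_F4 (R := rootSys chevF4)
      (Matrix.ext fun i j => rootSys_A_eq_cartan (D := chevF4) i j)).orderOf_sp i j, ← ev_append,
      ← T.ok_spec ((chk1 i).2.2.2.2.2 j)]
    induction CoxeterMatrix.F₄ i j with
    | zero => exact pow_zero _
    | succ m ih => rw [pow_succ', ih, List.replicate_succ, List.flatten_cons, ← ev_append]
  nH i := by
    rintro _ ⟨m, rfl⟩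
    rw [← conj_zpow, T.n_inv]
    refine zpow_mem ?_ m
    rcases (chk1 i).2.2.2.1 with e | e <;> have := T.ok_spec e <;>
      simp only [ev_append, T.rev (w := hw) (by decide), mul_eq_one_iff_eq_inv (a := _ * _ * _), inv_inv] at this <;>
      simp [this]
  HY h hh i := by
    refine fun y hy => (mem_normalizer_iff.1 (zpowers_le.2 (mem_normalizer_iff.2 fun y => ⟨?_, ?_⟩) hh) y).1 hy
    · rintro (rfl | ⟨a, ha, rfl⟩)
      · simp
      obtain ⟨-, -, ⟨b, hb, e⟩, -⟩ := (chk1 i).2.2.1 a ha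
      exact .inr ⟨b, hb, T.of_hw ((chk1 i).2.2.1 b hb).1 e⟩
    · rintro (k | ⟨a, ha, k⟩)
      · exact .inl (conj_eq_one_iff.1 k)
      obtain ⟨h1, -, -, ⟨b, hb, e⟩, -⟩ := (chk1 i).2.2.1 a ha
      exact .inr ⟨b, hb, by simpa using k.trans (T.of_hw h1 e).symm⟩
  xY i := .inr ⟨_, (chk1 i).1, rfl⟩
  tr i := by
    rintro _ (rfl | ⟨a, ha, rfl⟩)
    · exact .inl rfl
    obtain ⟨h1, -, -, -, rfl | e | e⟩ := (chk1 i).2.2.1 a ha
    · exact .inr ⟨1, one_mem _, by simp⟩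
    · exact .inr ⟨_, mem_zpowers _, (T.of_hw h1 e).symm⟩
    · exact .inr ⟨_, inv_mem (mem_zpowers _), by rw [← T.of_hw ((chk1 i).2.2.1 _ (chk1 i).1).1 e]; group⟩
  br i := by
    have h0 := T.sq _ ((chk1 i).2.2.1 _ (chk1 i).1).1
    have h1 := T.sq _ (chk1 i).2.1
    have := T.ok_spec (chk1 i).2.2.2.2.1
    rw [ev_append, T.rev (by simp [(chk1 i).2.1, ((chk1 i).2.2.1 _ (chk1 i).1).1]), mul_inv_eq_one] at this
    rw [T.n_inv]
    nth_rewrite 1 [nw1]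
    rw [this]
    simp only [nw1, ev_cons, ev_nil, mul_assoc, ← mul_assoc (g (x0 i)) (g (x0 i)), ← mul_assoc (g (x1 i)) (g (x1 i)), h0,
      h1, one_mul, mul_one]
  two i j k v hv e := by
    obtain ⟨l, hl, rfl⟩ : ∃ l ∈ dw i j, (l.map (rootSys chevF4).sp).prod = v := by
      clear e
      induction hv using RootSys.WJ_induction_left with
      | h1 => exact ⟨[], .head _, rfl⟩
      | hs m hm w hw ih =>
        obtain ⟨l, hl, rfl⟩ := ih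
        obtain ⟨l', h1, h2⟩ := (chk2 i j l hl).1 m (by simpa using hm)
        exact ⟨l', h1, Equiv.ext fun r => by rw [ac_eq, ← h2, ← ac_eq]; rfl⟩
    obtain ⟨l', -, h1, b, hb, h2⟩ := (chk2 i j l hl).2 k ((ac_eq ..).symm.trans e)
    exact ⟨l', Equiv.ext fun r => by rw [ac_eq, ac_eq, h1],
      .inr ⟨b, hb, (T.ev_cjw ..).symm.trans (T.of_ok ((chk1 k).2.2.1 b hb).1 h2)⟩⟩

theorem mem_Z {r : Rt chevF4} {y : G} : y ∈ T.rg.Z r ↔ y = 1 ∨ ∃ a ∈ Xs (ck r), y = ev g (cjw (cl r) a) := by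
  rw [T.rg.mem_Z ((ac_eq ..).trans (chk3 r))]
  simp only [T.ev_cjw]
  exact or_congr (by simp [mul_assoc, inv_mul_eq_iff_eq_mul]) (exists_congr fun a => and_congr_right fun _ => by
    rw [mul_assoc, inv_mul_eq_iff_eq_mul, eq_mul_inv_iff_mul_eq]; rfl)

theorem cm' : T.rg.Cm := fun i j s hs h1 h2 y hy => by
  rcases T.mem_Z.1 hy with rfl | ⟨a, ha, rfl⟩
  · simp
  obtain ⟨c1, c2⟩ := chk4 i j s (fun m a b => hs m (by simp [a, b])) h1 h2 a ha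
  have := T.ok_spec c2
  rw [ev_append, ev_append, ev_append, ev_append, ev_singleton, mul_eq_one_iff_eq_inv] at this
  have e : (ev g (cjw (cl s) a))⁻¹ = ev g (cjw (cl s) a) := by
    rw [T.ev_cjw, conj_inv, T.inv ((chk1 _).2.2.1 a ha).1]
  rw [commutatorElement_def, e, show (T.rg.x i)⁻¹ = g (x0 i) from T.inv ((chk1 i).2.2.1 _ (chk1 i).1).1]
  refine this ▸ inv_mem ?_
  generalize cert i s a = L at c1
  induction L with
  | nil => exact one_mem _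
  | cons t L ih =>
    obtain ⟨d1, d2, d3, d4⟩ := c1 t (.head _)
    rw [List.flatMap_cons, ev_append]
    exact mul_mem (le_iSup₂_of_le (f := fun k (_ : (rootSys chevF4).IsComb (sm i) s k) => T.rg.Z k) (rt t.1)
      ⟨_, _, d1, d2, funext d4⟩ le_rfl (T.mem_Z.2 (.inr ⟨_, d3, rfl⟩))) (ih fun t ht => c1 t (.tail _ ht))

end TH

end CL.E6U
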