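import Cfsg.Agent.SPOR.E6U.TCTD

/-!
The relators of the Levi factor hold in `²E₆(2)`.
-/

set_option autoImplicit false

namespace CL.E6U.Tc

open CL.CE CL.Chev CL.E62 CL.M4 Cfsg.Lie

/-- a relator of the model -/
def M1 (w : List ℕ) : Prop := (∀ a ∈ w, a < 16) ∧ wd gc w = F2M.oneC 78

noncomputable instance (w : List ℕ) : Decidable (M1 w) := inferInstanceAs (Decidable (_ ∧ _))

theorem chk8 : ∀ r ∈ R234, M1 r := by decide +kernel

end CL.E6U.Tc
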