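import Cfsg.Agent.SPOR.CE
import Cfsg.Agent.CHEV.E62Y
import Cfsg.Agent.CHEV.TwInvE6b

/-!
Generators and classes of involutions of `²E₆(2)`.
-/

set_option autoImplicit false

namespace CL.E6U

open CL.CE CL.E62 CL.M4 CL.Chev Cfsg.Lie Subgroup Set

/-- a reflection -/
def n1 : List ℕ := [0, 1, 0]
/-- a reflection -/
def n2 : List ℕ := [2, 3, 2]
/-- a reflection -/
def n3 : List ℕ := [10, 13, 10]
/-- a reflection -/
def n4 : List ℕ := [4, 7, 4]
/-- a word in the reflections -/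
def lw : List ℕ := n2 ++ n3 ++ n4 ++ n2 ++ n3 ++ n2
/-- the highest root element -/
def zw : List ℕ := n1 ++ lw ++ [0] ++ lw.reverse ++ n1

/-- representatives, conjugating words and targets -/
def cls (i : Fin 3) : List ℕ × List ℕ × List ℕ := ![([53], n2 ++ n3 ++ n2, [0]),
  ([53, 65], n3 ++ n1 ++ n2 ++ n3, zw ++ [2]), ([53, 65, 69], n4 ++ n3 ++ n1 ++ n2, zw ++ [2] ++ n3 ++ [2] ++ n3)] i

theorem chk_cls : ∀ i : Fin 3, M4.mul 78 E62.CM RM (wd gc (cls i).2.1)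
    (wc (Good.C chevE6) 72 6 78 E62.CM RM ((cls i).1.map fun r => (r, 0))) = wd gc ((cls i).2.2 ++ (cls i).2.1) ∧
    (∀ a ∈ (cls i).2.2 ++ (cls i).2.1, a < 16) ∧ ∀ a ∈ (cls i).1.map fun r => (r, 0), a.1 < 72 := by decide +kernel

variable {K : Type*} [Field K] [Fintype K] [CharP K 2] {ω : K} (hω : ω ^ 2 + ω + 1 = 0) (hK : Fintype.card K = 4)
  {γ : ℕ → twistedE6 K 2} (hγ : ∀ i < 16, rh K (γ i) = dec ω 78 (gc.getD i 0))
include hω hK hγ

theorem classes (u : twistedE6 K 2) (hu : orderOf u = 2) : ∃ c, c * u * c⁻¹ = γ 0 ∨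
    c * u * c⁻¹ = ev γ (zw ++ [2]) ∨ c * u * c⁻¹ = ev γ (zw ++ [2] ++ n3 ++ [2] ++ n3) := by
  have hK' : Nat.card K = 2 ^ 2 := Nat.card_eq_fintype_card.trans hK
  obtain ⟨T, h, hM, -⟩ := exists_twist_E6 (isPrimePow_of_card hK' two_ne_zero) hK'
  have hX := okE6.twX hM (fun i => (okE6_piF i).trans (h.π i).symm) (φ := T.f (0 : Fin 6)) fun i t =>
    (h.f i t).trans (h.f _ t).symm
  obtain ⟨i, _, ⟨c : twistedE6 K 2, rfl⟩, e⟩ := invol_E6 h hX (h.f _) ⟨u, rfl⟩ ((orderOf_injective _ (jG_injective _) u).trans hu)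
  obtain ⟨c1, c2, c3⟩ := chk_cls i
  have k : ev γ (cls i).2.1 * (c * u * c⁻¹) = ev γ ((cls i).2.2 ++ (cls i).2.1) := rh_injective (by
    rw [map_mul, ev, ev, rh_wd hω hγ c2, rh_wd hω hγ fun a ha => c2 a (List.mem_append_right _ ha), ← c1,
      dec_mul E62.ok hω]
    refine congrArg _ (Eq.trans ?_ (dec_wc hn E62.ok hω c3).symm)
    rw [ones_eq, show ![[53], [53, 65], [53, 65, 69]] i = (cls i).1 by
      fin_cases i <;> rfl] at e
    simp only [List.map_map, Function.comp_def, pow_zero, ← e]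
    rfl)
  rw [ev_append, ← mul_inv_eq_iff_eq_mul, show ∀ a : twistedE6 K 2, a * (c * u * c⁻¹) * a⁻¹ = a * c * u * (a * c)⁻¹ from
    fun a => by group] at k
  refine ⟨ev γ (cls i).2.1 * c, ?_⟩
  rw [k]
  fin_cases i
  exacts [.inl (ev_singleton ..), .inr (.inl rfl), .inr (.inr rfl)]

theorem gen_top : closure (γ '' Iio 16) = ⊤ := by
  have h3 : ω ^ 3 = 1 := by linear_combination (ω - 1) * hω
  have h1 : ∀ i < 16, ∀ a ∈ gt.getD i [], a.1 < 72 := by decide +kernel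
  have h2 : ∀ i < 16, jG chevE6 (e6Words K 2) (γ i) = evG chevE6 ((gt.getD i []).map fun a => (a.1, ω ^ a.2)) :=
    fun i hi => Subtype.ext (rho_injective hn ((hγ i hi).trans (gc_eq i hi ▸ dec_wc hn E62.ok hω (h1 i hi))))
  have h4 : ∀ t : K, t = 0 ∨ ∃ j < 3, t = ω ^ j := fun t => by
    have : t * (t - ω ^ 0) * (t - ω ^ 1) * (t - ω ^ 2) = 0 := by
      have := FiniteField.pow_card t
      rw [hK] at this
      linear_combination this - (t ^ 3 - ω * t ^ 2) * hω - t * h3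
    simp only [mul_eq_zero, sub_eq_zero, or_assoc] at this
    exact this.imp_right fun h => h.elim (⟨0, by decide, ·⟩) fun h => h.elim (⟨1, by decide, ·⟩) (⟨2, by decide, ·⟩)
  refine eq_top_iff.2 fun g _ => (mem_map_iff_mem (jG_injective _)).1 (range_jG_le (fun w hw => ?_) ⟨g, rfl⟩)
  have k : ∀ i < 16, ∀ w, w = (gt.getD i []).map (fun a => (a.1, ω ^ a.2)) →
      evG chevE6 w ∈ (closure (γ '' Iio 16)).map (jG chevE6 (e6Words K 2)) := fun i hi w e =>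
    ⟨_, subset_closure ⟨i, hi, rfl⟩, e ▸ h2 i hi⟩
  rcases hw with ⟨t, ht, r, hr, rfl⟩ | ⟨t, r, hr, rfl⟩
  · rcases eq_zero_or_one_of_sq_eq_self ht with rfl | rfl
    · simp [evG, xN_zero]
    obtain ⟨i, hi, e⟩ := (by decide +kernel : ∀ r ∈ [e6p2, e6m2, e6p4, e6m4], ∃ i < 16, gt.getD i [] = [(r, 0)]) r hr
    exact k i hi _ (by rw [e]; simp)
  rcases h4 t with rfl | ⟨j, hj, rfl⟩
  · simp [evG, xN_zero]
  obtain ⟨i, hi, e⟩ := (by decide +kernel : ∀ j < 3, ∀ r ∈ [(e6p1, e6p6), (e6m1, e6m6), (e6p3, e6p5), (e6m3, e6m5)],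
    ∃ i < 16, gt.getD i [] = [(r.1, j), (r.2, j * 2 % 3)]) j hj r hr
  exact k i hi _ (by rw [e]; simp [← pow_mul, ← pow_eq_pow_mod _ h3])

end CL.E6U
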