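import Cfsg.Agent.SPOR.LE.Lin

/-!
Weight planes of an elementary abelian group of order `81` acting on a vector space over `𝔽₂`.
-/

set_option autoImplicit false
set_option maxRecDepth 100000

namespace CL.E6U

open CL.LE Finset

/-- the group `3⁴` -/
abbrev A := ZMod 3 × ZMod 3 × ZMod 3 × ZMod 3

/-- the pairing -/
def dot (μ x : A) : ZMod 3 := μ.1 * x.1 + μ.2.1 * x.2.1 + μ.2.2.1 * x.2.2.1 + μ.2.2.2 * x.2.2.2

theorem dot_add (μ x y : A) : dot μ (x + y) = dot μ x + dot μ y := by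
  simp only [dot, Prod.fst_add, Prod.snd_add]; ring

theorem dot_zero (x : A) : dot 0 x = 0 := by simp [dot]

/-- representatives of the characters up to sign -/
def PP : Finset A := univ.filter fun μ => μ.1 = 1 ∨ μ.1 = 0 ∧ (μ.2.1 = 1 ∨ μ.2.1 = 0 ∧
  (μ.2.2.1 = 1 ∨ μ.2.2.1 = 0 ∧ μ.2.2.2 = 1))

theorem cnt_PP : ∀ x : A, ((PP.filter fun μ => dot μ x = 0).card : ZMod 2) + 1 =
    if x = 0 then 1 else 0 := by decide +kernel

theorem card_PP : (PP.card : ZMod 2) = 0 := by decide +kernel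

theorem cnt_ker : ∀ μ : A, ((univ.filter fun x => dot μ x = 0).card : ZMod 2) = 1 := by
  decide +kernel

variable {X V : Type*} [Group X] [AddCommGroup V] [Module (ZMod 2) V]
  (σ : X →* (V ≃ₗ[ZMod 2] V)) (α : A → X)

theorem σ_mul (a b : X) (v : V) : σ (a * b) v = σ a (σ b v) := by rw [map_mul]; rfl

theorem σ_one (v : V) : σ 1 v = v := by rw [map_one]; rfl

/-- the weight space -/
def W (μ : A) : Submodule (ZMod 2) V :=
  v2Sub {v | ∀ x, (dot μ x = 0 → σ (α x) v = v) ∧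
      (dot μ x ≠ 0 → v + σ (α x) v + σ (α x) (σ (α x) v) = 0)} (by simp) fun a ha b hb x =>
    ⟨fun h => by rw [map_add, (ha x).1 h, (hb x).1 h], fun h => by
      simp only [map_add]; linear_combination (norm := abel) (ha x).2 h + (hb x).2 h⟩

/-- the projection -/
noncomputable def pj (μ : A) (v : V) : V := ∑ x, if dot μ x = 0 then σ (α x) v else 0

theorem pj_add (μ : A) (u v : V) : pj σ α μ (u + v) = pj σ α μ u + pj σ α μ v := by
  rw [pj, pj, pj, ← sum_add_distrib]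
  exact sum_congr rfl fun x _ => by split_ifs <;> simp

theorem pj_smul (μ : A) (c : ZMod 2) (v : V) : pj σ α μ (c • v) = c • pj σ α μ v := by
  rw [pj, pj, smul_sum]
  exact sum_congr rfl fun x _ => by split_ifs <;> simp

/-- the projection as a linear map -/
noncomputable def pl (μ : A) : V →ₗ[ZMod 2] V := ⟨⟨pj σ α μ, pj_add σ α μ⟩, pj_smul σ α μ⟩

variable {σ α}

theorem pj_fix {μ : A} {v : V} (h : ∀ x, dot μ x = 0 → σ (α x) v = v) : pj σ α μ v = v := by
  rw [pj, sum_congr rfl fun x _ => (show _ = if dot μ x = 0 then v else 0 by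
    split_ifs with e; exacts [h x e, rfl]), ← sum_filter, sum_const, ← Nat.cast_smul_eq_nsmul (ZMod 2),
    cnt_ker, one_smul]

variable (hα : ∀ x y, α (x + y) = α x * α y)
include hα

theorem r_add (x y : A) (v : V) : σ (α (x + y)) v = σ (α x) (σ (α y) v) := by rw [hα, σ_mul]

theorem r_zero (v : V) : σ (α 0) v = v := by
  have := hα 0 0
  rw [add_zero, left_eq_mul] at this
  rw [this, σ_one]

theorem pj_r (μ y : A) (v : V) :
    pj σ α μ (σ (α y) v) = ∑ x, if dot μ x = dot μ y then σ (α x) v else 0 := by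
  rw [pj, eq_comm, ← Equiv.sum_comp (Equiv.addRight y)]
  exact sum_congr rfl fun x _ => by simp [dot_add, r_add hα]

theorem r_pj (μ y : A) (v : V) : σ (α y) (pj σ α μ v) = pj σ α μ (σ (α y) v) := by
  rw [pj, pj, map_sum]
  exact sum_congr rfl fun x _ => by
    split_ifs
    · rw [← r_add hα, ← r_add hα, add_comm]
    · exact map_zero _

theorem pj_kill {μ ν y : A} {v : V} (hv : v ∈ W σ α μ) (h1 : dot ν y = 0) (h2 : dot μ y ≠ 0) :
    pj σ α ν v = 0 := by
  have e : ∀ u, pj σ α ν (σ (α y) u) = pj σ α ν u := fun u => by rw [pj_r hα, h1]; rfl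
  have := congrArg (pl σ α ν) ((hv y).2 h2)
  rw [map_zero, map_add, map_add] at this
  change pj σ α ν _ + pj σ α ν _ + pj σ α ν _ = 0 at this
  rwa [e, e, e, v2_add_add_cancel'] at this

theorem pj_mem (μ : A) (v : V) : pj σ α μ v + pj σ α 0 v ∈ W σ α μ := fun y => by
  have e0 : ∀ u, pj σ α 0 (σ (α y) u) = pj σ α 0 u := fun u => by rw [pj_r hα, dot_zero]; rfl
  simp only [map_add, r_pj hα, e0]
  refine ⟨fun h => by rw [pj_r hα, h]; rfl, fun h => ?_⟩
  have : pj σ α μ v + pj σ α μ (σ (α y) v) + pj σ α μ (σ (α y) (σ (α y) v)) = pj σ α 0 v := by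
    rw [← r_add hα, pj_r hα, pj_r hα, pj, pj, ← sum_add_distrib, ← sum_add_distrib, dot_add]
    refine sum_congr rfl fun x _ => ?_
    rw [dot_zero, if_pos rfl]
    have : ∀ a b : ZMod 3, b ≠ 0 → (a = 0 ∧ a ≠ b ∧ a ≠ b + b) ∨ (a ≠ 0 ∧ a = b ∧ a ≠ b + b) ∨
      (a ≠ 0 ∧ a ≠ b ∧ a = b + b) := by decide
    rcases this (dot μ x) _ h with ⟨a, b, c⟩ | ⟨a, b, c⟩ | ⟨a, b, c⟩
    · rw [if_pos a, if_neg b, if_neg c, add_zero, add_zero]
    · rw [if_neg a, if_pos b, if_neg c, add_zero, zero_add]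
    · rw [if_neg a, if_neg b, if_pos c, add_zero, zero_add]
  linear_combination (norm := abel) this + v2_add_self (pj σ α 0 v) + v2_add_self (pj σ α 0 v)

theorem exists_W {y : A} {v : V} (h : σ (α y) v ≠ v) : ∃ μ ∈ PP, ∃ u ∈ W σ α μ, u ≠ 0 := by
  by_contra hn
  push Not at hn
  have h1 : ∑ μ ∈ PP, (pj σ α μ v + pj σ α 0 v) = 0 :=
    sum_eq_zero fun μ hμ => hn μ hμ _ (pj_mem hα μ v)
  rw [sum_add_distrib, sum_const, ← Nat.cast_smul_eq_nsmul (ZMod 2), card_PP, zero_smul,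
    add_zero] at h1
  have h2 : ∑ μ ∈ PP, pj σ α μ v + pj σ α 0 v = v := by
    simp only [pj]
    rw [sum_comm, ← sum_add_distrib]
    refine Eq.trans (sum_congr rfl fun x _ => ?_)
      (show ∑ x : A, (if x = 0 then v else 0) = v by simp)
    rw [← sum_filter, sum_const, ← Nat.cast_smul_eq_nsmul (ZMod 2), dot_zero, if_pos rfl,
      show ∀ (c : ZMod 2) (w : V), c • w + w = (c + 1) • w from fun c w => by
        rw [add_smul, one_smul], cnt_PP]
    split_ifs with e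
    · rw [e, r_zero hα, one_smul]
    · exact zero_smul _ _
  rw [h1, zero_add] at h2
  exact h (by rw [← h2, r_pj hα, pj_r hα, dot_zero]; rfl)

omit hα in
theorem plane {μ x : A} {u : V} (hu : u ∈ W σ α μ) (h0 : u ≠ 0) (hx : dot μ x ≠ 0) {a b : ZMod 2}
    (h : a • u + b • σ (α x) u = 0) : a = 0 ∧ b = 0 := by
  rcases z2_cases' a with rfl | rfl <;> rcases z2_cases' b with rfl | rfl <;>
    simp only [zero_smul, one_smul, zero_add, add_zero] at h
  · exact ⟨rfl, rfl⟩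
  · exact absurd ((map_eq_zero_iff _ (σ _).injective).1 h) h0
  · exact absurd h h0
  · have := (hu x).2 hx
    rw [← v2_add_eq_zero.1 h, ← v2_add_eq_zero.1 h, v2_add_add_cancel'] at this
    exact absurd this h0

/-- the vectors `g u`, `g x u` -/
def fam (σ : X →* (V ≃ₗ[ZMod 2] V)) {m : ℕ} (g : Fin m → X) (a : X) (u : V) (p : Fin m × Fin 2) : V :=
  σ (g p.1) (if p.2 = 0 then u else σ a u)

theorem r_mem {μ : A} {v : V} (hv : v ∈ W σ α μ) (y : A) : σ (α y) v ∈ W σ α μ := fun x => by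
  have e : ∀ u, σ (α x) (σ (α y) u) = σ (α y) (σ (α x) u) := fun u => by
    rw [← r_add hα, add_comm, r_add hα]
  simp only [e, ← map_add]
  exact ⟨fun h => by rw [(hv x).1 h], fun h => by rw [(hv x).2 h, map_zero]⟩

theorem pj_fam {m : ℕ} {g : Fin m → X} {χ : Fin m → A} {μ x : A} {u : V} (hu : u ∈ W σ α μ)
    (hg : ∀ i, ∀ v ∈ W σ α μ, σ (g i) v ∈ W σ α (χ i))
    (sep : ∀ i j, i ≠ j → ∃ y, dot (χ i) y = 0 ∧ dot (χ j) y ≠ 0) (c : Fin m × Fin 2 → ZMod 2)
    (i : Fin m) : pj σ α (χ i) (∑ p, c p • fam σ g (α x) u p) =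
      σ (g i) (c (i, 0) • u + c (i, 1) • σ (α x) u) := by
  have hm : ∀ p : Fin m × Fin 2, fam σ g (α x) u p ∈ W σ α (χ p.1) := fun p => hg _ _ (by
    split_ifs; exacts [hu, r_mem hα hu x])
  change pl σ α _ _ = _
  rw [map_sum, Fintype.sum_prod_type, sum_eq_single i, Fin.sum_univ_two, map_smul, map_smul]
  · change _ • pj σ α _ _ + _ • pj σ α _ _ = _
    rw [pj_fix fun y => (hm (i, 0) y).1, pj_fix fun y => (hm (i, 1) y).1, map_add, map_smul,
      map_smul]
    rfl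
  · intro j _ hj
    obtain ⟨y, h1, h2⟩ := sep i j hj.symm
    exact sum_eq_zero fun b _ => by
      rw [map_smul]; exact smul_eq_zero_of_right _ (pj_kill hα (hm (j, b)) h1 h2)
  · simp

theorem li {m : ℕ} {g : Fin m → X} {χ : Fin m → A} {μ x : A} {u : V} (hu : u ∈ W σ α μ)
    (h0 : u ≠ 0) (hx : dot μ x ≠ 0) (hg : ∀ i, ∀ v ∈ W σ α μ, σ (g i) v ∈ W σ α (χ i))
    (sep : ∀ i j, i ≠ j → ∃ y, dot (χ i) y = 0 ∧ dot (χ j) y ≠ 0) :
    LinearIndependent (ZMod 2) (fam σ g (α x) u) := by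
  refine Fintype.linearIndependent_iff.2 fun c hc p => ?_
  have := pj_fam hα (x := x) hu hg sep c p.1
  rw [hc, show pj σ α _ 0 = 0 from map_zero (pl σ α _), eq_comm,
    map_eq_zero_iff _ (σ _).injective] at this
  obtain ⟨i, b⟩ := p
  fin_cases b
  exacts [(plane hu h0 hx this).1, (plane hu h0 hx this).2]

/-- the linear map with the given columns -/
def lin4 (c : A × A × A × A) (x : A) : A :=
  x.1 • c.1 + x.2.1 • c.2.1 + x.2.2.1 • c.2.2.1 + x.2.2.2 • c.2.2.2

/-- its transpose -/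
def tr4 (c : A × A × A × A) (μ : A) : A := (dot μ c.1, dot μ c.2.1, dot μ c.2.2.1, dot μ c.2.2.2)

omit hα in
theorem dot_tr4 (c : A × A × A × A) (μ x : A) : dot (tr4 c μ) x = dot μ (lin4 c x) := by
  simp only [dot, tr4, lin4, Prod.fst_add, Prod.snd_add, Prod.smul_fst, Prod.smul_snd, smul_eq_mul]
  ring

theorem cj_lin4 {s : X} {c : A × A × A × A} (h0 : α (1, 0, 0, 0) * s = s * α c.1)
    (h1 : α (0, 1, 0, 0) * s = s * α c.2.1) (h2 : α (0, 0, 1, 0) * s = s * α c.2.2.1)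
    (h3 : α (0, 0, 0, 1) * s = s * α c.2.2.2) (x : A) : α x * s = s * α (lin4 c x) := by
  have a : ∀ {x y x' y'}, α x * s = s * α x' → α y * s = s * α y' →
      α (x + y) * s = s * α (x' + y') := fun e1 e2 => by
    rw [hα, hα, mul_assoc, e2, ← mul_assoc, e1, mul_assoc]
  have z : α 0 = 1 := by simpa using hα 0 0
  have b : ∀ {x x'} (k : ZMod 3), α x * s = s * α x' → α (k • x) * s = s * α (k • x') :=
    fun k e => by
      rcases (by decide : ∀ k : ZMod 3, k = 0 ∨ k = 1 ∨ k = 1 + 1) k with rfl | rfl | rfl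
      · simp [z]
      · simpa using e
      · simpa only [add_smul, one_smul] using a e e
  have := a (a (a (b x.1 h0) (b x.2.1 h1)) (b x.2.2.1 h2)) (b x.2.2.2 h3)
  simpa [lin4] using this

omit hα in
theorem W_map {s : X} {c : A × A × A × A} (h : ∀ x, α x * s = s * α (lin4 c x)) {μ : A} {v : V}
    (hv : v ∈ W σ α μ) : σ s v ∈ W σ α (tr4 c μ) := fun x => by
  have e : ∀ u, σ (α x) (σ s u) = σ s (σ (α (lin4 c x)) u) := fun u => by
    rw [← σ_mul, h, σ_mul]
  simp only [e, ← map_add, dot_tr4]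
  exact ⟨fun h => by rw [(hv _).1 h], fun h => by rw [(hv _).2 h, map_zero]⟩

end CL.E6U
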